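import Cfsg.Agent.Lib.Classical.DicksonClassify
import Cfsg.Agent.Lib.Classical.DicksonProper
import Mathlib.NumberTheory.LSeries.PrimesInAP

/-!
For m neither a prime power, nor twice an odd number, nor one of 12, 24, 60, some PSL(2, p) has order divisible by
m with cofactor prime to m and no subgroup of order m.
-/

set_option autoImplicit false

namespace Cfsg.Agent.HallNum

/-- The normaliser of a Sylow p-subgroup in a simple group of order p(p²−1)/2 has order p(p−1)/2. -/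
theorem card_normalizer {G : Type*} [Group G] [Finite G] [IsSimpleGroup G] {p : ℕ} [hp : Fact p.Prime]
    (h5 : 5 ≤ p) (hcard : 2 * Nat.card G = p * ((p - 1) * (p + 1))) (P : Sylow p G) :
    2 * Nat.card (Subgroup.normalizer ((P : Subgroup G) : Set G)) = p * (p - 1) := by
  have hodd : Odd p := hp.out.odd_of_ne_two (by omega)
  obtain ⟨h, hh⟩ : ∃ h, p = 2 * h + 1 := hodd
  have hG : Nat.card G = p * (2 * h * (h + 1)) := by
    have : p * ((p - 1) * (p + 1)) = 2 * (p * (2 * h * (h + 1))) := by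
      rw [show p - 1 = 2 * h by omega, show p + 1 = 2 * (h + 1) by omega]
      ring
    omega
  have hmod := card_sylow_modEq_one p G
  have hn : Nat.card (Sylow p G) = (Subgroup.normalizer ((P : Subgroup G) : Set G)).index :=
    Sylow.card_eq_index_normalizer P
  have hmul := Subgroup.card_mul_index (Subgroup.normalizer ((P : Subgroup G) : Set G))
  have hpdvd : p ∣ Nat.card (P : Subgroup G) := P.dvd_card_of_dvd_card ⟨_, hG⟩
  have hnd : Nat.card (Sylow p G) ∣ 2 * h * (h + 1) := by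
    have h1 : p * Nat.card (Sylow p G) ∣ Nat.card G := by
      rw [← hmul, ← hn]
      exact Nat.mul_dvd_mul_right (hpdvd.trans (Subgroup.card_dvd_of_le Subgroup.le_normalizer)) _
    rw [hG] at h1
    exact Nat.dvd_of_mul_dvd_mul_left hp.out.pos h1
  have hne : Nat.card (Sylow p G) ≠ 1 := by
    intro h1
    rw [hn] at h1
    have hnorm : (P : Subgroup G).Normal := Subgroup.normalizer_eq_top_iff.1 (Subgroup.index_eq_one.1 h1)
    rcases hnorm.eq_bot_or_eq_top with h2 | h2
    · rw [h2, Subgroup.card_bot] at hpdvd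
      exact hp.out.not_dvd_one hpdvd
    · obtain ⟨k, hk⟩ := P.isPGroup'.exists_card_eq
      rw [h2, Subgroup.card_top] at hk
      have h2h : 2 ∣ p ^ k := by rw [← hk, hG]; exact Dvd.intro (p * (h * (h + 1))) (by ring)
      have := (Nat.prime_dvd_prime_iff_eq Nat.prime_two hp.out).1 (Nat.prime_two.dvd_of_dvd_pow h2h)
      omega
  obtain ⟨l, hl⟩ := hnd
  obtain ⟨j, hj⟩ : ∃ j, Nat.card (Sylow p G) = p * j + 1 := by
    refine ⟨Nat.card (Sylow p G) / p, ?_⟩
    have h1 : Nat.card (Sylow p G) % p = 1 := by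
      have h2 : Nat.card (Sylow p G) % p = 1 % p := hmod
      rw [h2, Nat.mod_eq_of_lt hp.out.one_lt]
    conv_lhs => rw [← Nat.div_add_mod (Nat.card (Sylow p G)) p, h1]
  have hj0 : j ≠ 0 := fun e => hne (by rw [hj, e, mul_zero])
  -- modulo p the cofactor l is (p - 1)/2
  have key : p ∣ 2 * l + 1 := by
    have e : (2 * l + 1) + 2 * (p * j * l) = p * p := by
      rw [hj] at hl
      have : 4 * (h * (h + 1)) + 1 = p * p := by rw [hh]; ring
      nlinarith
    have h1 : p ∣ (2 * l + 1) + 2 * (p * j * l) := by rw [e]; exact dvd_mul_right p p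
    exact (Nat.dvd_add_left (Dvd.intro (2 * (j * l)) (by ring))).1 h1
  have hl1 : h ≤ l := by
    have := Nat.le_of_dvd (by omega) key
    omega
  have hj1 : j = 1 := by
    by_contra h1
    have h2 : 2 * p + 1 ≤ Nat.card (Sylow p G) := by rw [hj]; nlinarith [show 2 ≤ j by omega]
    have h3 : Nat.card (Sylow p G) * h ≤ 2 * h * (h + 1) := by rw [hl]; exact Nat.mul_le_mul_left _ hl1
    have h4 : (2 * p + 1) * h ≤ 2 * h * (h + 1) := (Nat.mul_le_mul_right _ h2).trans h3
    nlinarith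
  rw [← hn, hj, hj1, hG] at hmul
  have hfac : Nat.card (Subgroup.normalizer ((P : Subgroup G) : Set G)) * (h + 1) = p * h * (h + 1) := by
    have : p * 1 + 1 = 2 * (h + 1) := by omega
    rw [this] at hmul
    nlinarith
  have hfin := Nat.eq_of_mul_eq_mul_right (Nat.succ_pos h) hfac
  rw [hfin, show p - 1 = 2 * h by omega]
  ring

/-- Powers of an odd prime times a number prime to it: the congruences for the prime. -/
theorem exists_prime_congr {A B : ℕ} (hA : 1 < A) (hB : 1 < B) (hAB : A.Coprime B) :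
    ∃ p, p.Prime ∧ A * B + 5 < p ∧ (∃ v, p + 1 = A * v ∧ v.Coprime A) ∧ ∃ u, p = B * u + 1 ∧ u.Coprime B := by
  have hco : (A * A).Coprime (B * B) := (hAB.mul_left hAB).mul_right (hAB.mul_left hAB)
  obtain ⟨x, hx1, hx2⟩ := Nat.chineseRemainder hco (A - 1) (B + 1)
  haveI : NeZero (A * A * (B * B)) := ⟨by positivity⟩
  have hu : IsUnit ((x : ℕ) : ZMod (A * A * (B * B))) := by
    rw [ZMod.isUnit_iff_coprime]
    refine Nat.Coprime.mul_right ?_ ?_
    · refine Nat.Coprime.mul_right ?_ ?_ <;>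
      · have h1 : Nat.gcd x A = Nat.gcd (A - 1) A := (hx1.of_mul_right A).gcd_eq
        show Nat.gcd x A = 1
        rw [h1]
        exact (Nat.coprime_self_sub_left (show 1 ≤ A by omega)).2 (Nat.coprime_one_left A)
    · refine Nat.Coprime.mul_right ?_ ?_ <;>
      · have h1 : Nat.gcd x B = Nat.gcd (B + 1) B := (hx2.of_mul_right B).gcd_eq
        show Nat.gcd x B = 1
        rw [h1, Nat.gcd_comm, Nat.gcd_self_add_right, Nat.gcd_one_right]
  obtain ⟨p, hpn, hp, hpx⟩ := Nat.forall_exists_prime_gt_and_eq_mod hu (A * B + 5)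
  have hmod : p ≡ x [MOD A * A * (B * B)] := (ZMod.natCast_eq_natCast_iff _ _ _).1 hpx
  refine ⟨p, hp, hpn, ?_, ?_⟩
  · have h1 : p + 1 ≡ A [MOD A * A] := by
      have := ((hmod.of_mul_right _).trans hx1).add_right 1
      rwa [Nat.sub_add_cancel (by omega)] at this
    have hlt : A < A * A := by nlinarith
    refine ⟨A * ((p + 1) / (A * A)) + 1, ?_, ?_⟩
    · have h2 : (p + 1) % (A * A) = A := by rw [h1, Nat.mod_eq_of_lt hlt]
      have h3 := Nat.div_add_mod (p + 1) (A * A)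
      rw [h2] at h3
      conv_lhs => rw [← h3]
      ring
    · rw [Nat.coprime_mul_left_add_left]
      exact Nat.coprime_one_left _
  · have h1 : p ≡ B + 1 [MOD B * B] := (hmod.of_mul_left _).trans hx2
    have hlt : B + 1 < B * B := by nlinarith
    refine ⟨B * (p / (B * B)) + 1, ?_, ?_⟩
    · have h2 : p % (B * B) = B + 1 := by rw [h1, Nat.mod_eq_of_lt hlt]
      have h3 := Nat.div_add_mod p (B * B)
      rw [h2] at h3
      conv_lhs => rw [← h3]
      ring
    · rw [Nat.coprime_mul_left_add_left]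
      exact Nat.coprime_one_left _

/-- The arithmetic of the order of PSL(2, p). -/
theorem cofactor_coprime {p A B u v g : ℕ} (hp : p.Prime) (hAodd : Odd A) (hA : 1 < A)
    (hB : Odd B ∧ 1 < B ∨ 4 ∣ B) (hpA : p + 1 = A * v) (hv : v.Coprime A) (hpB : p = B * u + 1)
    (hu : u.Coprime B) (hbig : A * B < p) (hg : 2 * g = p * ((p - 1) * (p + 1))) :
    A * B ∣ g ∧ (A * B).Coprime (g / (A * B)) := by
  have hB0 : 0 < B := by rcases hB with ⟨-, h⟩ | h <;> [omega; exact Nat.pos_of_ne_zero (by rintro rfl; simp [hpB] at hp; exact Nat.not_prime_one hp)]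
  have hpm : Nat.Coprime (A * B) p :=
    (Nat.Coprime.symm ((Nat.Prime.coprime_iff_not_dvd hp).2 fun h => absurd (Nat.le_of_dvd (by positivity) h) (by omega)))
  have hodd : Odd p := hp.odd_of_ne_two (by nlinarith)
  have hp1 : p - 1 = B * u := by omega
  have hAu : A.Coprime u := by
    have h1 : Nat.gcd A (p - 1) ∣ 2 := by
      have h2 : Nat.gcd A (p - 1) ∣ p + 1 := by rw [hpA]; exact (Nat.gcd_dvd_left _ _).trans (dvd_mul_right _ _)
      have h3 := Nat.dvd_sub h2 (Nat.gcd_dvd_right A (p - 1))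
      rwa [show p + 1 - (p - 1) = 2 by omega] at h3
    have h4 : Nat.gcd A u ∣ Nat.gcd A 2 :=
      Nat.dvd_gcd (Nat.gcd_dvd_left _ _)
        ((Nat.dvd_gcd (Nat.gcd_dvd_left A u) ((Nat.gcd_dvd_right A u).trans (hp1.symm ▸ dvd_mul_left u B))).trans h1)
    rw [(Nat.coprime_two_right.2 hAodd : Nat.gcd A 2 = 1)] at h4
    exact Nat.eq_one_of_dvd_one h4
  have hBv : Nat.gcd B v ∣ 2 := by
    have h1 : Nat.gcd B v ∣ p + 1 := by rw [hpA]; exact (Nat.gcd_dvd_right _ _).trans (dvd_mul_left _ _)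
    have h2 : Nat.gcd B v ∣ p - 1 := by rw [hp1]; exact (Nat.gcd_dvd_left _ _).trans (dvd_mul_right _ _)
    have h3 := Nat.dvd_sub h1 h2
    rwa [show p + 1 - (p - 1) = 2 by omega] at h3
  have hcase : ∃ u' v', g = A * B * (p * u' * v') ∧ u' ∣ u ∧ v' ∣ v ∧ Nat.gcd B v' = 1 := by
    obtain ⟨h, hh⟩ := hodd
    rcases hB with ⟨hBo, -⟩ | h4
    · have h2u : 2 ∣ u := by
        have : 2 ∣ B * u := by rw [← hp1]; exact ⟨h, by omega⟩
        exact (Nat.Coprime.dvd_of_dvd_mul_left (Nat.coprime_two_left.2 hBo) this)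
      obtain ⟨u', hu'⟩ := h2u
      refine ⟨u', v, ?_, ⟨2, by omega⟩, dvd_rfl, ?_⟩
      · have : 2 * g = 2 * (A * B * (p * u' * v)) := by rw [hg, hp1, hpA, hu']; ring
        omega
      · have := (Nat.coprime_two_right.2 hBo)
        have h5 : Nat.gcd B v ∣ Nat.gcd B 2 := Nat.dvd_gcd (Nat.gcd_dvd_left _ _) hBv
        rw [this] at h5
        exact Nat.eq_one_of_dvd_one h5
    · obtain ⟨b, hb⟩ := h4
      have h2v : 2 ∣ v := by
        have : 2 ∣ A * v := by rw [← hpA]; exact ⟨h + 1, by omega⟩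
        exact (Nat.Coprime.dvd_of_dvd_mul_left (Nat.coprime_two_left.2 hAodd) this)
      obtain ⟨v', hv'⟩ := h2v
      refine ⟨u, v', ?_, dvd_rfl, ⟨2, by omega⟩, ?_⟩
      · have : 2 * g = 2 * (A * B * (p * u * v')) := by rw [hg, hp1, hpA, hv']; ring
        omega
      · have hv'odd : Odd v' := by
          have h6 : B * u + 2 = A * (2 * v') := by rw [← hv', ← hpA]; omega
          rw [hb, show A * (2 * v') = 2 * (A * v') by ring, mul_assoc] at h6
          have h7 : Odd (A * v') := ⟨b * u, by omega⟩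
          exact (Nat.odd_mul.1 h7).2
        have h5 : Nat.gcd B v' ∣ Nat.gcd v' 2 := Nat.dvd_gcd (Nat.gcd_dvd_right _ _)
          ((Nat.dvd_gcd (Nat.gcd_dvd_left _ _) ((Nat.gcd_dvd_right B v').trans ⟨2, by rw [hv']; ring⟩)).trans hBv)
        rw [(Nat.coprime_two_right.2 hv'odd : Nat.gcd v' 2 = 1)] at h5
        exact Nat.eq_one_of_dvd_one h5
  obtain ⟨u', v', hgeq, hu', hv', hBv'⟩ := hcase
  refine ⟨⟨_, hgeq⟩, ?_⟩
  rw [hgeq, Nat.mul_div_cancel_left _ (by positivity)]
  refine Nat.Coprime.mul_right (Nat.Coprime.mul_right hpm (Nat.Coprime.mul_left ?_ ?_)) (Nat.Coprime.mul_left ?_ hBv')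
  · exact hAu.coprime_dvd_right hu'
  · exact hu.symm.coprime_dvd_right hu'
  · exact hv.symm.coprime_dvd_right hv'

theorem not_subgroup {p A B u v : ℕ} [hp : Fact p.Prime] (hAodd : Odd A) (hA : 1 < A)
    (hB : Odd B ∧ 1 < B ∨ 4 ∣ B) (hB0 : 0 < B) (hAB : A.Coprime B) (h12 : A * B ≠ 12) (h24 : A * B ≠ 24)
    (h60 : A * B ≠ 60) (hpA : p + 1 = A * v) (hpB : p = B * u + 1) (hbig : A * B + 5 < p)
    (H : Subgroup (Matrix.ProjectiveSpecialLinearGroup (Fin 2) (ZMod p))) : Nat.card H ≠ A * B := by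
  intro hH
  have hB2 : ¬ B ∣ 2 := fun h => by
    have := Nat.le_of_dvd two_pos h
    rcases hB with ⟨⟨k, hk⟩, hB1⟩ | h4
    · omega
    · have := Nat.le_of_dvd hB0 h4; omega
  have hF : Nat.card (ZMod p) = p := Nat.card_zmod p
  have hz : Nat.card (Subgroup.center (Matrix.SpecialLinearGroup (Fin 2) (ZMod p))) = 2 := by
    rw [Dickson.card_center, hF]
    obtain ⟨h, hh⟩ := hp.out.odd_of_ne_two (by omega)
    exact Nat.gcd_eq_left ⟨h, by omega⟩
  have hA2 : ∀ x, A ∣ x → A ∣ x + 2 → False := fun x h1 h2 => by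
    have h3 := (Nat.dvd_add_right h1).1 h2
    obtain ⟨k, hk⟩ := hAodd
    have := Nat.le_of_dvd two_pos h3
    omega
  have hAm : ¬ A ∣ p - 1 := fun h => hA2 _ h (by rw [show p - 1 + 2 = p + 1 by omega, hpA]; exact dvd_mul_right _ _)
  have hBp : ∀ x, x ∣ B → x ∣ p + 1 → x ∣ 2 := fun x h1 h2 => by
    have h3 : x ∣ p - 1 := by rw [show p - 1 = B * u by omega]; exact h1.trans (dvd_mul_right _ _)
    have h4 := Nat.dvd_sub h2 h3
    rwa [show p + 1 - (p - 1) = 2 by omega] at h4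
  have hnp : ¬ p ∣ A * B := fun h => absurd (Nat.le_of_dvd (by positivity) h) (by omega)
  have hcardG : 2 * Nat.card (Matrix.ProjectiveSpecialLinearGroup (Fin 2) (ZMod p)) = p * ((p - 1) * (p + 1)) := by
    have h := Dickson.gcd_mul_card_psl (K := ZMod p)
    rw [hF] at h
    obtain ⟨k, hk⟩ := hp.out.odd_of_ne_two (by omega)
    rw [Nat.gcd_eq_left ⟨k, by omega⟩] at h
    rw [h, show p ^ 2 - 1 = (p + 1) * (p - 1) by rw [← Nat.sq_sub_sq, one_pow], mul_comm (p + 1)]
  rcases Dickson.classify p H with ⟨k, hk, hshape⟩ | ⟨S, hS⟩ | h | h | h | ⟨K, _, _, r, hr, -, h⟩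
  · rw [hz, hF] at hk
    have hkdvd : A * B ∣ 2 * k := by
      rcases hshape with ⟨-, hc⟩ | he
      · rw [← hH, hc]; exact dvd_mul_left _ _
      · obtain ⟨e⟩ := he
        rw [← hH, Nat.card_congr e.toEquiv, DihedralGroup.nat_card]
    have hAk : A ∣ k := (Nat.coprime_two_right.2 hAodd).dvd_of_dvd_mul_left ((dvd_mul_right A B).trans hkdvd)
    rcases hk with hk | hk
    · -- B divides 2k which divides p + 1
      exact hB2 (hBp B dvd_rfl (((dvd_mul_left B A).trans hkdvd).trans hk))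
    · exact hAm ((hAk.trans (dvd_mul_left _ _)).trans hk)
  · haveI : IsSimpleGroup (Matrix.ProjectiveSpecialLinearGroup (Fin 2) (ZMod p)) :=
      Matrix.ProjectiveSpecialLinearGroup.rank_two_simple (by rw [hF]; omega)
    have h1 := Subgroup.card_dvd_of_le hS
    rw [hH] at h1
    have h2 : A * B ∣ p * (p - 1) := by
      rw [← card_normalizer (by omega) hcardG S]; exact h1.trans (dvd_mul_left _ _)
    exact hAm ((Nat.Coprime.dvd_of_dvd_mul_left (Nat.Coprime.symm ((Nat.Prime.coprime_iff_not_dvd hp.out).2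
      fun h => hnp (h.trans (dvd_mul_right _ _)))) ((dvd_mul_right A B).trans h2)))
  · obtain ⟨e⟩ := h.2.2
    refine h12 ?_
    rw [← hH, Nat.card_congr e.toEquiv, nat_card_alternatingGroup, Nat.card_fin]
    rfl
  · obtain ⟨e⟩ := h.2.2
    refine h24 ?_
    rw [← hH, Nat.card_congr e.toEquiv, Nat.card_perm, Nat.card_fin]
    rfl
  · obtain ⟨e⟩ := h.2.2
    refine h60 ?_
    rw [← hH, Nat.card_congr e.toEquiv, nat_card_alternatingGroup, Nat.card_fin]
    rfl
  · have hKp : Nat.card K = p := by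
      rw [hF, ← Nat.card_eq_fintype_card] at hr
      have hr1 := (Nat.Prime.pow_eq_iff hp.out).1 hr
      exact hr1.1
    have hd := Dickson.gcd_mul_card_psl (K := K)
    rw [hKp] at hd
    have hpsl : p ∣ Nat.card (Matrix.ProjectiveSpecialLinearGroup (Fin 2) K) := by
      refine (Nat.Coprime.dvd_of_dvd_mul_left ?_ (Dvd.intro _ hd.symm))
      exact (Nat.Prime.coprime_iff_not_dvd hp.out).2 fun h => by
        have := Nat.le_of_dvd (Nat.gcd_pos_of_pos_left _ two_pos) h
        have := Nat.gcd_le_left (p - 1) two_pos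
        omega
    refine hnp (hH ▸ ?_)
    rcases h with he | he <;> obtain ⟨e⟩ := he
    · rwa [Nat.card_congr e.toEquiv]
    · rw [Nat.card_congr e.toEquiv, ClassicalSL.card_pgl,
        ← Subgroup.card_mul_index (Subgroup.center (Matrix.SpecialLinearGroup (Fin 2) K))]
      exact Dvd.dvd.mul_left hpsl _

/-- The counterexamples. -/
theorem exists_counterexample {m : ℕ} (hm : 2 ≤ m) (hpp : ¬ IsPrimePow m) (h2 : m % 4 ≠ 2) (h12 : m ≠ 12)
    (h24 : m ≠ 24) (h60 : m ≠ 60) :
    ∃ (p : ℕ) (_ : Fact p.Prime), m ∣ Nat.card (Matrix.ProjectiveSpecialLinearGroup (Fin 2) (ZMod p)) ∧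
      m.Coprime (Nat.card (Matrix.ProjectiveSpecialLinearGroup (Fin 2) (ZMod p)) / m) ∧
      ∀ H : Subgroup (Matrix.ProjectiveSpecialLinearGroup (Fin 2) (ZMod p)), Nat.card H ≠ m := by
  have hm0 : m ≠ 0 := by omega
  obtain ⟨a, ha, ha2, ham⟩ : ∃ a : ℕ, a.Prime ∧ a ≠ 2 ∧ a ∣ m := by
    by_contra hno
    push Not at hno
    refine hpp ?_
    have hall : ∀ {d : ℕ}, d.Prime → d ∣ m → d = 2 := fun hd hdm => by_contra fun h => hno _ hd h hdm
    rw [Nat.eq_prime_pow_of_unique_prime_dvd hm0 hall]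
    refine Nat.prime_two.isPrimePow.pow ?_
    intro h
    have := Nat.eq_prime_pow_of_unique_prime_dvd hm0 hall
    rw [h, pow_zero] at this
    omega
  haveI := Fact.mk ha
  obtain ⟨A, hA⟩ : ∃ A, A = a ^ m.factorization a := ⟨_, rfl⟩
  obtain ⟨B, hB⟩ : ∃ B, B = m / a ^ m.factorization a := ⟨_, rfl⟩
  have hm' : A * B = m := by rw [hA, hB]; exact Nat.ordProj_mul_ordCompl_eq_self m a
  have hAodd : Odd A := hA ▸ (ha.odd_of_ne_two ha2).pow
  have hk : 0 < m.factorization a := ha.factorization_pos_of_dvd hm0 ham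
  have hA1 : 1 < A := hA ▸ Nat.one_lt_pow hk.ne' ha.one_lt
  have hAB : A.Coprime B := hA ▸ hB ▸ (Nat.Coprime.pow_left _ (Nat.coprime_ordCompl ha hm0))
  have hB1 : 1 < B := by
    rcases Nat.lt_or_ge 1 B with h | h
    · exact h
    · exfalso
      interval_cases B
      · omega
      · rw [mul_one] at hm'
        exact hpp (hm' ▸ hA ▸ ha.isPrimePow.pow hk.ne')
  have hBshape : Odd B ∧ 1 < B ∨ 4 ∣ B := by
    rcases Nat.even_or_odd B with h | h
    · refine Or.inr ?_
      obtain ⟨b, rfl⟩ := h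
      have : 4 ∣ A * (b + b) := by
        obtain ⟨c, hc⟩ : 2 ∣ m := ⟨A * b, by rw [← hm']; ring⟩
        rw [hm']
        omega
      exact (Nat.Coprime.pow_left 2 (Nat.coprime_two_left.2 hAodd)).dvd_of_dvd_mul_left this
    · exact Or.inl ⟨h, hB1⟩
  obtain ⟨p, hp, hbig, ⟨v, hv, hvA⟩, u, hu, huB⟩ := exists_prime_congr hA1 hB1 hAB
  haveI := Fact.mk hp
  have hg : 2 * Nat.card (Matrix.ProjectiveSpecialLinearGroup (Fin 2) (ZMod p)) = p * ((p - 1) * (p + 1)) := by
    have h := Dickson.gcd_mul_card_psl (K := ZMod p)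
    rw [Nat.card_zmod] at h
    obtain ⟨k, hk'⟩ := hp.odd_of_ne_two (by omega)
    rw [Nat.gcd_eq_left ⟨k, by omega⟩] at h
    rw [h, show p ^ 2 - 1 = (p + 1) * (p - 1) by rw [← Nat.sq_sub_sq, one_pow], mul_comm (p + 1)]
  obtain ⟨hdvd, hco⟩ := cofactor_coprime hp hAodd hA1 hBshape hv hvA hu huB (by omega) hg
  refine ⟨p, inferInstance, ?_⟩
  rw [← hm']
  exact ⟨hdvd, hco, not_subgroup hAodd hA1 hBshape (by omega) hAB (by omega) (by omega) (by omega) hv hu hbig⟩

end Cfsg.Agent.HallNum
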