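import Cfsg.Agent.Lib.HallNum.Small
import Cfsg.Agent.Lib.GW.Goal
import Cfsg.Agent.Lib.Classical.DicksonProper
import Cfsg.Agent.S0804

/-!
A group whose order is 60 times a number prime to 30 has a subgroup of order 60, given the classification of
simple groups with dihedral Sylow 2-subgroups.
-/

set_option autoImplicit false
set_option linter.style.haveILetI false
set_option linter.unusedSectionVars false

namespace Cfsg.Agent.HallNum

universe u

/-- The numerical condition for 60. -/
structure N60 (n : ℕ) : Prop where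
  two : 4 ∣ n
  two' : ¬ 8 ∣ n
  three : 3 ∣ n
  three' : ¬ 9 ∣ n
  five : 5 ∣ n
  five' : ¬ 25 ∣ n

theorem N60.of_dvd {n d : ℕ} (h : N60 n) (hd : d ∣ n) (h4 : 4 ∣ d) (h3 : 3 ∣ d) (h5 : 5 ∣ d) : N60 d :=
  ⟨h4, fun h' => h.two' (h'.trans hd), h3, fun h' => h.three' (h'.trans hd), h5, fun h' => h.five' (h'.trans hd)⟩

theorem N60.exists_eq {n : ℕ} (h : N60 n) : ∃ k, n = 60 * k ∧ Nat.Coprime 60 k := by
  obtain ⟨k, hk⟩ : 60 ∣ n := by
    have h12 : 12 ∣ n := Nat.Coprime.mul_dvd_of_dvd_of_dvd (by norm_num : Nat.Coprime 4 3) h.two h.three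
    exact Nat.Coprime.mul_dvd_of_dvd_of_dvd (by norm_num : Nat.Coprime 12 5) h12 h.five
  refine ⟨k, hk, ?_⟩
  have c2 : Nat.Coprime 2 k := (Nat.Prime.coprime_iff_not_dvd Nat.prime_two).2 fun ⟨j, hj⟩ => h.two' ⟨15 * j, by omega⟩
  have c3 : Nat.Coprime 3 k :=
    (Nat.Prime.coprime_iff_not_dvd Nat.prime_three).2 fun ⟨j, hj⟩ => h.three' ⟨20 * j, by omega⟩
  have c5 : Nat.Coprime 5 k :=
    (Nat.Prime.coprime_iff_not_dvd (by norm_num)).2 fun ⟨j, hj⟩ => h.five' ⟨12 * j, by omega⟩
  exact Nat.Coprime.mul_left (Nat.Coprime.mul_left (Nat.Coprime.mul_left c2 c2) c3) c5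

variable {G : Type u} [Group G] [Finite G]

theorem hall60_of_solvable [Group.IsSolvable G] (h : N60 (Nat.card G)) : ∃ H : Subgroup G, Nat.card H = 60 := by
  obtain ⟨k, hk, hc⟩ := h.exists_eq
  exact hall_of_solvable hk hc

theorem sylow_two_card (h : N60 (Nat.card G)) (P : Sylow 2 G) : Nat.card (P : Subgroup G) = 4 := by
  haveI : Fact (Nat.Prime 2) := ⟨Nat.prime_two⟩
  obtain ⟨k, hk⟩ := IsPGroup.iff_card.1 P.isPGroup'
  have hd : 2 ^ k ∣ Nat.card G := hk ▸ Subgroup.card_subgroup_dvd_card _
  have hk2 : k ≤ 2 := by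
    by_contra hle
    exact h.two' ((pow_dvd_pow 2 (not_le.1 hle) : 2 ^ 3 ∣ 2 ^ k).trans hd)
  refine Nat.dvd_antisymm (hk ▸ pow_dvd_pow 2 hk2) (P.pow_dvd_card_of_pow_dvd_card (n := 2) h.two)

theorem frattini_dvd {N L : Subgroup G} [N.Normal] (hsup : N ⊔ L = ⊤) {d : ℕ} (hd : d ∣ Nat.card G)
    (hcop : d.Coprime (Nat.card N)) : d ∣ Nat.card L := by
  have h1 : Nat.card G ∣ Nat.card N * Nat.card L := by
    rw [← Subgroup.card_top (G := G), ← hsup]
    have e1 := Subgroup.card_mul_index (N.subgroupOf (N ⊔ L))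
    rw [Nat.card_congr (Subgroup.subgroupOfEquivOfLe (le_sup_left : N ≤ N ⊔ L)).toEquiv] at e1
    rw [← e1]
    refine Nat.mul_dvd_mul_left _ ?_
    rw [← Subgroup.relIndex, sup_comm, Subgroup.relIndex_sup_right]
    exact Subgroup.index_dvd_card _
  exact hcop.dvd_of_dvd_mul_left (hd.trans h1)

theorem solvable_of_no_three {h : N60 (Nat.card G)} (P : Sylow 2 G)
    (hno : ∀ g ∈ Subgroup.normalizer ((P : Subgroup G) : Set G), ¬ 3 ∣ orderOf g ∨ g ∈
      Subgroup.centralizer ((P : Subgroup G) : Set G)) : Group.IsSolvable G := by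
  haveI : Fact (Nat.Prime 2) := ⟨Nat.prime_two⟩
  have hP := sylow_two_card h P
  refine RealTwoPart.isSolvable_of_hasNormalPComplement OddChar.oddSolvable.{u}
    (Fusion.hasNormalPComplement_of_normalizer_le_centralizer P fun g hg => ?_)
  obtain ⟨a, b, hab, ha, hb, ⟨i, hai⟩, hbo⟩ := PBasic.exists_pPart_mul (p := 2) g
  set N := Subgroup.normalizer ((P : Subgroup G) : Set G) with hN
  have haN : a ∈ N := (Subgroup.zpowers_le.2 hg) ha
  have hbN : b ∈ N := (Subgroup.zpowers_le.2 hg) hb
  have haP : a ∈ (P : Subgroup G) := by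
    have hp' : IsPGroup 2 (Subgroup.zpowers a) := IsPGroup.of_card (n := i) (by rw [Nat.card_zpowers, hai])
    exact (P.is_maximal' (IsPGroup.to_sup_of_normal_right' hp' P.isPGroup' (Subgroup.zpowers_le.2 haN))
      le_sup_right).le (Subgroup.mem_sup_left (Subgroup.mem_zpowers a))
  haveI hPc : IsMulCommutative (P : Subgroup G) :=
    IsPGroup.isMulCommutative_of_card_eq_prime_sq (p := 2) (by rw [hP]; norm_num)
  have hbC : b ∈ Subgroup.centralizer ((P : Subgroup G) : Set G) := by
    rcases hno b hbN with h3 | hc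
    · exact centralizes_small hP.le hbN (Nat.coprime_two_right.1 hbo) h3
    · exact hc
  rw [← hab]
  refine mul_mem (Subgroup.mem_centralizer_iff.2 fun y hy => ?_) hbC
  exact congrArg Subtype.val (hPc.1.comm ⟨y, hy⟩ ⟨a, haP⟩)

theorem sixty_simple (hGW : GW.SimpleDihedral.{u}) [IsSimpleGroup G] (h : N60 (Nat.card G))
    (hns : ¬ Group.IsSolvable G) : ∃ H : Subgroup G, Nat.card H = 60 := by
  haveI : Fact (Nat.Prime 2) := ⟨Nat.prime_two⟩
  obtain ⟨P⟩ : Nonempty (Sylow 2 G) := inferInstance
  have hP := sylow_two_card h P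
  have hnc : ¬ IsCyclic (P : Subgroup G) := fun hc => hns <|
    haveI := hc
    RealTwoPart.isSolvable_of_hasNormalPComplement OddChar.oddSolvable.{u}
      (HSub.hasNormalPComplement_of_cyclic P fun r hr _ => hr.two_le)
  haveI : IsKleinFour (P : Subgroup G) := by
    refine ⟨hP, ?_⟩
    haveI : Fact (Nat.Prime 2) := ⟨Nat.prime_two⟩
    have hd : Monoid.exponent (P : Subgroup G) ∣ 2 ^ 2 :=
      Monoid.exponent_dvd_of_forall_pow_eq_one fun x => by
        rw [show (2 : ℕ) ^ 2 = Nat.card (P : Subgroup G) by rw [hP]; norm_num]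
        exact pow_card_eq_one'
    obtain ⟨k, hk, he⟩ := (Nat.dvd_prime_pow Nat.prime_two).1 hd
    interval_cases k
    · exfalso
      haveI := Monoid.exp_eq_one_iff.1 (he.trans (pow_zero 2))
      have := Nat.card_of_subsingleton (1 : (P : Subgroup G))
      omega
    · simpa using he
    · refine absurd ?_ hnc
      haveI : IsMulCommutative (P : Subgroup G) :=
        IsPGroup.isMulCommutative_of_card_eq_prime_sq (p := 2) (by rw [hP]; norm_num)
      letI : CommGroup (P : Subgroup G) :=
        { (inferInstance : Group (P : Subgroup G)) with mul_comm := fun a b => mul_comm' a b }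
      exact IsCyclic.of_exponent_eq_card (by rw [he, hP]; norm_num)
  rcases hGW G P 2 le_rfl IsKleinFour.nonempty_mulEquiv with ⟨F, _, _, hodd, h3F, ⟨e⟩⟩ | ⟨⟨e⟩⟩
  · set q := Fintype.card F with hq
    have hgcd := Dickson.gcd_mul_card_psl (K := F)
    rw [Nat.card_eq_fintype_card (α := F), ← hq] at hgcd
    have h5 : 5 ∣ q * (q ^ 2 - 1) := by
      rw [← hgcd, ← Nat.card_congr e.toEquiv]
      exact h.five.mul_left _
    obtain ⟨H, ⟨e'⟩⟩ := (S0804.result hq.symm).2 h5
    refine ⟨H.map e.symm.toMonoidHom, ?_⟩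
    rw [Subgroup.card_map_of_injective (K := H) (f := e.symm.toMonoidHom) e.symm.injective,
      Nat.card_congr e'.toEquiv, nat_card_alternatingGroup, Nat.card_eq_fintype_card, Fintype.card_fin]
    rfl
  · exfalso
    refine h.two' ?_
    rw [Nat.card_congr e.toEquiv, nat_card_alternatingGroup, Nat.card_eq_fintype_card, Fintype.card_fin]
    exact ⟨315, rfl⟩

/-- The theorem. -/
theorem sixty (hGW : GW.SimpleDihedral.{u}) : ∀ (n : ℕ) (G : Type u) [Group G] [Finite G], Nat.card G = n →
    N60 n → ∃ H : Subgroup G, Nat.card H = 60 := by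
  intro n
  induction n using Nat.strong_induction_on with
  | _ n ih =>
  intro G _ _ hn h
  subst hn
  classical
  haveI : Fact (Nat.Prime 2) := ⟨Nat.prime_two⟩
  haveI : Fact (Nat.Prime 3) := ⟨Nat.prime_three⟩
  haveI : Fact (Nat.Prime 5) := ⟨by norm_num⟩
  by_contra hcon
  have hns : ¬ Group.IsSolvable G := fun hs => hcon (hall60_of_solvable h)
  have hsub : ∀ L : Subgroup G, L ≠ ⊤ → 4 ∣ Nat.card L → 3 ∣ Nat.card L → 5 ∣ Nat.card L → False := fun L hL a b c =>
    hcon (of_subgroup (ih (Nat.card L) (lt_of_not_ge fun hle => hL (Subgroup.eq_top_of_le_card L hle)) L rfl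
      (h.of_dvd (Subgroup.card_subgroup_dvd_card L) a b c)))
  -- odd normal subgroups are trivial
  have hodd : ∀ N : Subgroup G, N.Normal → ¬ 2 ∣ Nat.card N → N = ⊥ := by
    intro N hN hN2
    by_contra hN1
    haveI := hN
    have hNd : Nat.card N ∣ Nat.card G := Subgroup.card_subgroup_dvd_card _
    have hc2 : Nat.Coprime 2 (Nat.card N) := (Nat.Prime.coprime_iff_not_dvd Nat.prime_two).2 hN2
    have hc4 : Nat.Coprime 4 (Nat.card N) := Nat.Coprime.mul_left hc2 hc2
    haveI : Group.IsSolvable N := OddChar.oddSolvable.{u} N (Nat.odd_iff.2 (Nat.two_dvd_ne_zero.1 hN2))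
    by_cases h3N : 3 ∣ Nat.card N
    · by_cases h5N : 5 ∣ Nat.card N
      · -- a Hall subgroup of order 15
        obtain ⟨k, hk⟩ : 15 ∣ Nat.card N :=
          Nat.Coprime.mul_dvd_of_dvd_of_dvd (by norm_num : Nat.Coprime 3 5) h3N h5N
        have hcop : Nat.Coprime 15 k := by
          show Nat.Coprime (3 * 5) k
          refine Nat.Coprime.mul_left ?_ ?_
          · exact (Nat.Prime.coprime_iff_not_dvd Nat.prime_three).2 fun ⟨j, hj⟩ =>
              h.three' (dvd_trans (Dvd.intro (5 * j) (by omega)) hNd)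
          · exact (Nat.Prime.coprime_iff_not_dvd (by norm_num)).2 fun ⟨j, hj⟩ =>
              h.five' (dvd_trans (Dvd.intro (3 * j) (by omega)) hNd)
        obtain ⟨K, hK⟩ := HallSolv.exists_hall hk hcop
        set K' := K.map N.subtype with hK'
        have hK'c : Nat.card K' = 15 := by rw [hK', Subgroup.card_map_of_injective N.subtype_injective, hK]
        have hsup : N ⊔ Subgroup.normalizer (K' : Set G) = ⊤ := by
          refine eq_top_iff.2 fun g _ => ?_
          set φ : N →* N := ((MulAut.conj g).toMonoidHom.comp N.subtype).codRestrict N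
            (fun c => hN.conj_mem _ c.2 g) with hφ
          have hφinj : Function.Injective φ := fun a b e =>
            Subtype.ext ((MulAut.conj g).injective (congrArg (Subtype.val (p := fun y => y ∈ N)) e))
          obtain ⟨m, hm⟩ := HallSolv.hall_conj hk hcop (H := K.map φ) (K := K)
            (by rw [Subgroup.card_map_of_injective hφinj, hK]) hK
          have hmem : (m : G) * g ∈ Subgroup.normalizer (K' : Set G) := by
            rw [Subgroup.mem_normalizer_iff_map_conj_eq]
            refine Subgroup.eq_of_le_of_card_ge ?_ ?_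
            · rintro _ ⟨_, ⟨x, hx, rfl⟩, rfl⟩
              refine ⟨MulAut.conj m (φ x), hm.le (Subgroup.smul_mem_pointwise_smul _ (MulAut.conj m) _ ⟨x, hx, rfl⟩), ?_⟩
              simp [hφ, mul_assoc]
            · exact (Subgroup.card_map_of_injective (K := K') (f := (MulAut.conj ((m : G) * g)).toMonoidHom)
                (MulAut.conj _).injective).ge
          rw [show g = (m : G)⁻¹ * ((m : G) * g) by group]
          exact mul_mem (Subgroup.mem_sup_left (inv_mem m.2)) (Subgroup.mem_sup_right hmem)
        set L := Subgroup.normalizer (K' : Set G) with hL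
        have h4L : 4 ∣ Nat.card L := frattini_dvd hsup h.two hc4
        obtain ⟨Q⟩ : Nonempty (Sylow 2 L) := inferInstance
        have hQ4 : 4 ∣ Nat.card (Q : Subgroup L) := Q.pow_dvd_card_of_pow_dvd_card (n := 2) h4L
        set Q' := (Q : Subgroup L).map L.subtype with hQ'
        have hQ'c : Nat.card Q' = 4 := by
          obtain ⟨T, hT⟩ := (Q.isPGroup'.map L.subtype).exists_le_sylow
          refine Nat.dvd_antisymm (sylow_two_card h T ▸ Subgroup.card_dvd_of_le hT) ?_
          rw [hQ', Subgroup.card_map_of_injective L.subtype_injective]; exact hQ4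
        refine hcon ⟨K' ⊔ Q', ?_⟩
        rw [SolvBasic.card_sup_of_inf_eq_bot (Subgroup.map_subtype_le _), hK'c, hQ'c]
        refine Subgroup.card_eq_one.1 (Nat.eq_one_of_dvd_coprimes (by norm_num : Nat.Coprime 15 4) ?_ ?_)
        · rw [← hK'c]; exact Subgroup.card_dvd_of_le inf_le_left
        · rw [← hQ'c]; exact Subgroup.card_dvd_of_le inf_le_right
      · -- 3 only
        have hc5 : Nat.Coprime 5 (Nat.card N) := (Nat.Prime.coprime_iff_not_dvd (by norm_num)).2 h5N
        obtain ⟨P⟩ : Nonempty (Sylow 3 N) := inferInstance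
        set P' := (P : Subgroup N).map N.subtype with hP'
        set L := Subgroup.normalizer (P' : Set G) with hL
        have hsup : N ⊔ L = ⊤ := by rw [sup_comm]; exact Sylow.normalizer_sup_eq_top P
        have hPc : 3 ∣ Nat.card P' := by
          rw [hP', Subgroup.card_map_of_injective N.subtype_injective]
          exact P.dvd_card_of_dvd_card h3N
        have h3L : 3 ∣ Nat.card L := hPc.trans (Subgroup.card_dvd_of_le Subgroup.le_normalizer)
        by_cases hLtop : L = ⊤
        swap
        · exact hsub L hLtop (frattini_dvd hsup h.two hc4) h3L (frattini_dvd hsup h.five hc5)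
        -- P' is normal
        haveI hP'n : P'.Normal := Subgroup.normalizer_eq_top_iff.1 hLtop
        have hP'3 : Nat.card P' = 3 := by
          obtain ⟨k, hk⟩ := IsPGroup.iff_card.1 (P.isPGroup'.map N.subtype)
          have hd : 3 ^ k ∣ Nat.card G := hk ▸ Subgroup.card_subgroup_dvd_card _
          rcases k with _ | _ | k
          · rw [hk] at hPc; norm_num at hPc
          · exact hk.trans (pow_one 3)
          · exact absurd ((pow_dvd_pow 3 (show 2 ≤ k + 2 by omega) : 3 ^ 2 ∣ _).trans hd) h.three'
        obtain ⟨V⟩ : Nonempty (Sylow 2 G) := inferInstance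
        refine hns (solvable_of_no_three (h := h) V fun g hg => ?_)
        by_cases h3g : 3 ∣ orderOf g
        swap
        · exact Or.inl h3g
        refine Or.inr ?_
        have hPsyl : ∀ x : G, (∃ i : ℕ, orderOf x = 3 ^ i) → x ∈ P' := by
          intro x hx
          obtain ⟨i, hi⟩ := hx
          have hp' : IsPGroup 3 (Subgroup.zpowers x) := IsPGroup.of_card (n := i) (by rw [Nat.card_zpowers, hi])
          have hsupc : IsPGroup 3 (Subgroup.zpowers x ⊔ P' : Subgroup G) :=
            IsPGroup.to_sup_of_normal_right hp' (P.isPGroup'.map N.subtype)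
          obtain ⟨j, hj⟩ := IsPGroup.iff_card.1 hsupc
          have hj1 : j ≤ 1 := by
            by_contra hle
            exact h.three' ((pow_dvd_pow 3 (not_le.1 hle) : 3 ^ 2 ∣ 3 ^ j).trans
              (hj ▸ Subgroup.card_subgroup_dvd_card _))
          have e := Subgroup.eq_of_le_of_card_ge (le_sup_right : P' ≤ Subgroup.zpowers x ⊔ P') (by
            rw [hj, hP'3]; exact (Nat.pow_le_pow_right (by norm_num) hj1).trans (pow_one 3).le)
          exact e.ge (Subgroup.mem_sup_left (Subgroup.mem_zpowers x))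
        have hPC : P' ≤ Subgroup.centralizer ((V : Subgroup G) : Set G) := by
          intro x hx
          have hxN : x ∈ Subgroup.normalizer ((V : Subgroup G) : Set G) := by
            obtain ⟨y, hy, hy3⟩ : ∃ y ∈ Subgroup.normalizer ((V : Subgroup G) : Set G), orderOf y = 3 :=
              ⟨g ^ (orderOf g / 3), pow_mem hg _, orderOf_pow_orderOf_div (orderOf_pos g).ne' h3g⟩
            have e : Subgroup.zpowers y = P' := Subgroup.eq_of_le_of_card_ge
              (Subgroup.zpowers_le.2 (hPsyl y ⟨1, by rw [hy3, pow_one]⟩)) (by rw [Nat.card_zpowers, hy3, hP'3])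
            exact (Subgroup.zpowers_le.2 hy) (e.ge hx)
          refine Subgroup.mem_centralizer_iff.2 fun v hv => ?_
          have h1 : v * x * v⁻¹ * x⁻¹ ∈ P' := P'.mul_mem (hP'n.conj_mem x hx v) (P'.inv_mem hx)
          have h2 : v * x * v⁻¹ * x⁻¹ ∈ (V : Subgroup G) := by
            have := (Subgroup.mem_normalizer_iff.1 hxN v⁻¹).1 ((V : Subgroup G).inv_mem hv)
            simpa [mul_assoc] using (V : Subgroup G).mul_mem hv this
          have h12 : v * x * v⁻¹ * x⁻¹ = 1 := by
            refine orderOf_eq_one_iff.1 (Nat.eq_one_of_dvd_coprimes (by norm_num : Nat.Coprime 3 4) ?_ ?_)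
            · rw [← hP'3, ← Subgroup.orderOf_mk _ h1]; exact orderOf_dvd_natCard _
            · rw [← sylow_two_card h V, ← Subgroup.orderOf_mk _ h2]; exact orderOf_dvd_natCard _
          rwa [mul_inv_eq_one, mul_inv_eq_iff_eq_mul] at h12
        -- so the automiser is trivial
        set Z := Subgroup.centralizer ((V : Subgroup G) : Set G) with hZ
        set M := Subgroup.normalizer ((V : Subgroup G) : Set G) with hM
        have h3Z : 3 ∣ Nat.card Z := hP'3 ▸ Subgroup.card_dvd_of_le hPC
        haveI : (Z.subgroupOf M).Normal :=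
          (Subgroup.normal_subgroupOf_iff_le_normalizer (Subgroup.centralizer_le_normalizer _)).2 fun m hm => by
            refine Subgroup.mem_normalizer_iff.2 fun y => ⟨fun hy => ?_, fun hy => ?_⟩
            all_goals rw [Subgroup.mem_centralizer_iff] at hy ⊢; intro d hd
            · have := hy _ ((Subgroup.mem_normalizer_iff''.1 hm d).1 hd)
              calc d * (m * y * m⁻¹) = m * ((m⁻¹ * d * m) * y) * m⁻¹ := by group
                _ = _ := by rw [this]; group
            · have := hy _ ((Subgroup.mem_normalizer_iff.1 hm d).1 hd)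
              calc d * y = m⁻¹ * (m * d * m⁻¹ * (m * y * m⁻¹)) * m := by group
                _ = _ := by rw [this]; group
        -- g to a power prime to 3 centralises
        set o := orderOf g with ho
        obtain ⟨o', ho'⟩ := h3g
        have ho3 : ¬ 3 ∣ o' := fun ⟨j, hj⟩ => h.three' <| by
          have : 9 ∣ o := ⟨j, by omega⟩
          exact this.trans (orderOf_dvd_natCard g)
        -- decompose g
        obtain ⟨a, b, hab, ha, hb, ⟨i, hai⟩, hbo⟩ := PBasic.exists_pPart_mul (p := 3) g
        have haZ : a ∈ Z := hPC (hPsyl a ⟨i, hai⟩)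
        have hbM : b ∈ M := (Subgroup.zpowers_le.2 hg) hb
        obtain ⟨c, d, hcd, hc, hd', ⟨l, hcl⟩, hdo⟩ := PBasic.exists_pPart_mul (p := 2) b
        have hcM : c ∈ M := (Subgroup.zpowers_le.2 hbM) hc
        have hdM : d ∈ M := (Subgroup.zpowers_le.2 hbM) hd'
        have hcV : c ∈ (V : Subgroup G) := by
          have hp' : IsPGroup 2 (Subgroup.zpowers c) := IsPGroup.of_card (n := l) (by rw [Nat.card_zpowers, hcl])
          exact (V.is_maximal' (IsPGroup.to_sup_of_normal_right' hp' V.isPGroup' (Subgroup.zpowers_le.2 hcM))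
            le_sup_right).le (Subgroup.mem_sup_left (Subgroup.mem_zpowers c))
        haveI hVc : IsMulCommutative (V : Subgroup G) :=
          IsPGroup.isMulCommutative_of_card_eq_prime_sq (p := 2) (by rw [sylow_two_card h V]; norm_num)
        have hcZ : c ∈ Z := Subgroup.mem_centralizer_iff.2 fun y hy =>
          congrArg Subtype.val (hVc.1.comm ⟨y, hy⟩ ⟨c, hcV⟩)
        have hd3 : ¬ 3 ∣ orderOf d := fun h' => by
          have h1 : orderOf d ∣ orderOf b := by
            rw [← Nat.card_zpowers, ← Nat.card_zpowers]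
            exact Subgroup.card_dvd_of_le (Subgroup.zpowers_le.2 hd')
          exact (Nat.Prime.coprime_iff_not_dvd Nat.prime_three).1 hbo.symm (h'.trans h1)
        have hdZ : d ∈ Z := centralizes_small (sylow_two_card h V).le hdM (Nat.coprime_two_right.1 hdo) hd3
        rw [← hab, ← hcd]
        exact mul_mem haZ (mul_mem hcZ hdZ)
    · by_cases h5N : 5 ∣ Nat.card N
      · have hc3 : Nat.Coprime 3 (Nat.card N) := (Nat.Prime.coprime_iff_not_dvd Nat.prime_three).2 h3N
        obtain ⟨P⟩ : Nonempty (Sylow 5 N) := inferInstance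
        set P' := (P : Subgroup N).map N.subtype with hP'
        set L := Subgroup.normalizer (P' : Set G) with hL
        have hsup : N ⊔ L = ⊤ := by rw [sup_comm]; exact Sylow.normalizer_sup_eq_top P
        have hPc : 5 ∣ Nat.card P' := by
          rw [hP', Subgroup.card_map_of_injective N.subtype_injective]
          exact P.dvd_card_of_dvd_card h5N
        by_cases hLtop : L = ⊤
        swap
        · exact hsub L hLtop (frattini_dvd hsup h.two hc4) (frattini_dvd hsup h.three hc3)
            (hPc.trans (Subgroup.card_dvd_of_le Subgroup.le_normalizer))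
        haveI hP'n : P'.Normal := Subgroup.normalizer_eq_top_iff.1 hLtop
        have hP'5 : Nat.card P' = 5 := by
          obtain ⟨k, hk⟩ := IsPGroup.iff_card.1 (P.isPGroup'.map N.subtype)
          have hd : 5 ^ k ∣ Nat.card G := hk ▸ Subgroup.card_subgroup_dvd_card _
          rcases k with _ | _ | k
          · rw [hk] at hPc; norm_num at hPc
          · exact hk.trans (pow_one 5)
          · exact absurd ((pow_dvd_pow 5 (show 2 ≤ k + 2 by omega) : 5 ^ 2 ∣ _).trans hd) h.five'
        have hidx : Nat.card (G ⧸ P') * 5 = Nat.card G := by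
          rw [← hP'5, mul_comm, ← Subgroup.card_mul_index P']; rfl
        have hqd : Nat.card (G ⧸ P') ∣ Nat.card G := Dvd.intro _ hidx
        obtain ⟨K, hK⟩ := twelve (G := G ⧸ P')
          ((Nat.Coprime.dvd_mul_right (by norm_num : Nat.Coprime 4 5)).1 (hidx ▸ h.two))
          (fun h' => h.two' (h'.trans hqd))
          ((Nat.Coprime.dvd_mul_right (by norm_num : Nat.Coprime 3 5)).1 (hidx ▸ h.three))
          (fun h' => h.three' (h'.trans hqd))
        exact hcon ⟨K.comap (QuotientGroup.mk' P'), by rw [card_comap_mk, hK, hP'5]⟩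
      · -- prime to 15
        have hc3 : Nat.Coprime 3 (Nat.card N) := (Nat.Prime.coprime_iff_not_dvd Nat.prime_three).2 h3N
        have hc5 : Nat.Coprime 5 (Nat.card N) := (Nat.Prime.coprime_iff_not_dvd (by norm_num)).2 h5N
        have hc60 : Nat.Coprime 60 (Nat.card N) := Nat.Coprime.mul_left (Nat.Coprime.mul_left hc4 hc3) hc5
        have hmul : Nat.card N * Nat.card (G ⧸ N) = Nat.card G := Subgroup.card_mul_index N
        have hlt : Nat.card (G ⧸ N) < Nat.card G := by
          have h1 : 1 < Nat.card N := by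
            have := (Subgroup.nontrivial_iff_ne_bot N).2 hN1
            exact Finite.one_lt_card
          have h2 : 0 < Nat.card (G ⧸ N) := Nat.card_pos
          rw [← hmul]
          exact lt_mul_left h2 h1
        have hd : Nat.card (G ⧸ N) ∣ Nat.card G := Dvd.intro_left _ hmul
        obtain ⟨K, hK⟩ := ih _ hlt (G ⧸ N) rfl (h.of_dvd hd (hc4.dvd_of_dvd_mul_left (hmul ▸ h.two))
          (hc3.dvd_of_dvd_mul_left (hmul ▸ h.three)) (hc5.dvd_of_dvd_mul_left (hmul ▸ h.five)))
        exact hcon (hall_lift N hc60.symm K hK)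
  by_cases hsimple : IsSimpleGroup G
  · exact hcon (sixty_simple hGW h hns)
  · haveI : Nontrivial G := Finite.one_lt_card_iff_nontrivial.1 (by
      have := Nat.le_of_dvd Nat.card_pos h.two; omega)
    obtain ⟨N, hN, hN1, hN2⟩ : ∃ N : Subgroup G, N.Normal ∧ N ≠ ⊥ ∧ N ≠ ⊤ := by
      by_contra hc
      push_neg at hc
      exact hsimple ⟨fun N hN => (em (N = ⊥)).imp_right (hc N hN)⟩
    haveI := hN
    have hNd : Nat.card N ∣ Nat.card G := Subgroup.card_subgroup_dvd_card _
    have heven : 2 ∣ Nat.card N := by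
      by_contra hd; exact hN1 (hodd N hN hd)
    -- a normal 2-complement of N is trivial
    have hnpcN : Cfsg.HasNormalPComplement 2 N → ∃ k, Nat.card N = 2 ^ k := by
      intro hn
      haveI : (Cfsg.pPrimeCore 2 N).Characteristic := PBasic.pPrimeCore_characteristic 2 N
      have he : (Cfsg.pPrimeCore 2 N).map N.subtype = ⊥ := by
        refine hodd _ inferInstance ?_
        rw [Subgroup.card_map_of_injective N.subtype_injective]
        exact fun hd => Nat.prime_two.one_lt.ne'
          (Nat.eq_one_of_dvd_coprimes (PBasic.pPrimeCore_coprime 2 N) hd dvd_rfl)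
      have he' : Cfsg.pPrimeCore 2 N = ⊥ := (Subgroup.map_eq_bot_iff_of_injective _ N.subtype_injective).1 he
      obtain ⟨k, hk⟩ := IsPGroup.iff_card.1 (PBasic.quotient_pPrimeCore_isPGroup hn)
      refine ⟨k, ?_⟩
      rw [← hk, ← Subgroup.card_mul_index (Cfsg.pPrimeCore 2 N), he', Subgroup.card_bot, one_mul]
      rfl
    obtain ⟨V⟩ : Nonempty (Sylow 2 N) := inferInstance
    set V' := (V : Subgroup N).map N.subtype with hV'
    have hV'2 : IsPGroup 2 V' := V.isPGroup'.map _
    obtain ⟨T, hT⟩ := hV'2.exists_le_sylow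
    have hV'd : Nat.card V' ∣ 4 := sylow_two_card h T ▸ Subgroup.card_dvd_of_le hT
    have hVc : Nat.card (V : Subgroup N) = Nat.card V' :=
      (Subgroup.card_map_of_injective N.subtype_injective).symm
    by_cases h4N : 4 ∣ Nat.card N
    swap
    · -- a central involution
      have hV2 : Nat.card (V : Subgroup N) = 2 := by
        obtain ⟨k, hk⟩ := IsPGroup.iff_card.1 V.isPGroup'
        rcases k with _ | _ | k
        · have := V.dvd_card_of_dvd_card heven
          rw [hk] at this; norm_num at this
        · exact hk.trans (pow_one 2)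
        · exact absurd (((pow_dvd_pow 2 (show 2 ≤ k + 2 by omega) : 2 ^ 2 ∣ _).trans (dvd_of_eq hk.symm)).trans
            (Subgroup.card_subgroup_dvd_card _)) h4N
      haveI : IsCyclic (V : Subgroup N) := isCyclic_of_prime_card hV2
      obtain ⟨k, hk⟩ := hnpcN (HSub.hasNormalPComplement_of_cyclic V fun r hr _ => hr.two_le)
      have hN2c : Nat.card N = 2 := by
        rcases k with _ | _ | k
        · rw [hk] at heven; norm_num at heven
        · exact hk.trans (pow_one 2)
        · exact absurd ((pow_dvd_pow 2 (show 2 ≤ k + 2 by omega) : 2 ^ 2 ∣ _).trans (dvd_of_eq hk.symm)) h4N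
      have hmul : Nat.card N * Nat.card (G ⧸ N) = Nat.card G := Subgroup.card_mul_index N
      haveI : Group.IsSolvable (G ⧸ N) := solvable_of_not_four fun hd => h.two' (by
        rw [← hmul, hN2c]; exact Nat.mul_dvd_mul_left 2 hd)
      haveI : IsCyclic N := isCyclic_of_prime_card hN2c
      haveI : Group.IsSolvable N := Group.isSolvable_of_comm fun a b => by
        letI := IsCyclic.commGroup (α := N)
        exact mul_comm a b
      exact hns ((Group.isSolvable_iff_subgroup_quotient N).2 ⟨inferInstance, inferInstance⟩)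
    have hV4 : Nat.card V' = 4 := Nat.dvd_antisymm hV'd (hVc ▸ V.pow_dvd_card_of_pow_dvd_card (n := 2) h4N)
    have hTV : (T : Subgroup G) = V' := (Subgroup.eq_of_le_of_card_ge hT (by rw [sylow_two_card h T, hV4])).symm
    set L := Subgroup.normalizer (V' : Set G) with hL
    have hsup : N ⊔ L = ⊤ := by rw [sup_comm]; exact Sylow.normalizer_sup_eq_top V
    have h3L : 3 ∣ Nat.card L := by
      by_contra h3L
      refine hns (solvable_of_no_three (h := h) T fun g hg => Or.inl fun h3 => h3L ?_)
      rw [hTV] at hg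
      have := orderOf_dvd_natCard (⟨g, hg⟩ : L)
      rw [Subgroup.orderOf_mk] at this
      exact h3.trans this
    have hLtop : L ≠ ⊤ := fun e => by
      haveI : V'.Normal := Subgroup.normalizer_eq_top_iff.1 e
      have hmul : Nat.card V' * Nat.card (G ⧸ V') = Nat.card G := Subgroup.card_mul_index V'
      haveI : Group.IsSolvable (G ⧸ V') := solvable_of_not_four fun hd => h.two' (by
        rw [← hmul, hV4]; exact (by norm_num : 8 ∣ 4 * 4).trans (Nat.mul_dvd_mul_left 4 hd))
      haveI hVc' : IsMulCommutative V' := IsPGroup.isMulCommutative_of_card_eq_prime_sq (p := 2) (by rw [hV4]; norm_num)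
      haveI : Group.IsSolvable V' := Group.isSolvable_of_comm fun a b => hVc'.1.comm a b
      exact hns ((Group.isSolvable_iff_subgroup_quotient V').2 ⟨inferInstance, inferInstance⟩)
    have h4L : 4 ∣ Nat.card L := hV4 ▸ Subgroup.card_dvd_of_le Subgroup.le_normalizer
    by_cases h5N : 5 ∣ Nat.card N
    · by_cases h3N : 3 ∣ Nat.card N
      · exact hsub N hN2 h4N h3N h5N
      · -- N is 2-nilpotent, hence a four-group
        have hn : Cfsg.HasNormalPComplement 2 N := by
          refine Fusion.hasNormalPComplement_of_normalizer_le_centralizer V fun g hg => ?_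
          obtain ⟨a, b, hab, ha, hb, ⟨i, hai⟩, hbo⟩ := PBasic.exists_pPart_mul (p := 2) g
          have haN := (Subgroup.zpowers_le.2 hg) ha
          have hbN := (Subgroup.zpowers_le.2 hg) hb
          have haV : a ∈ (V : Subgroup N) := by
            have hp' : IsPGroup 2 (Subgroup.zpowers a) := IsPGroup.of_card (n := i) (by rw [Nat.card_zpowers, hai])
            exact (V.is_maximal' (IsPGroup.to_sup_of_normal_right' hp' V.isPGroup' (Subgroup.zpowers_le.2 haN))
              le_sup_right).le (Subgroup.mem_sup_left (Subgroup.mem_zpowers a))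
          haveI hVc2 : IsMulCommutative (V : Subgroup N) :=
            IsPGroup.isMulCommutative_of_card_eq_prime_sq (p := 2) (by rw [hVc, hV4]; norm_num)
          rw [← hab]
          refine mul_mem (Subgroup.mem_centralizer_iff.2 fun y hy => ?_)
            (centralizes_small (by rw [hVc, hV4]) hbN (Nat.coprime_two_right.1 hbo)
              (fun h3 => h3N (h3.trans (orderOf_dvd_natCard b))))
          exact congrArg Subtype.val (hVc2.1.comm ⟨y, hy⟩ ⟨a, haV⟩)
        obtain ⟨k, hk⟩ := hnpcN hn
        have : 5 ∣ 2 ^ k := hk ▸ h5N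
        exact absurd ((Nat.prime_dvd_prime_iff_eq (by norm_num) Nat.prime_two).1
          ((by norm_num : Nat.Prime 5).dvd_of_dvd_pow this)) (by norm_num)
    · exact hsub L hLtop h4L h3L
        (frattini_dvd hsup h.five ((Nat.Prime.coprime_iff_not_dvd (by norm_num)).2 h5N))

end Cfsg.Agent.HallNum
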