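import Cfsg.Agent.Lib.HallNum.Small
import Cfsg.Agent.Lib.EightSylow.Main

/-!
A group whose order is 24 times a number prime to 6 has a subgroup of order 24.
-/

set_option autoImplicit false
set_option linter.style.haveILetI false
set_option linter.unusedSectionVars false

namespace Cfsg.Agent.HallNum

universe u

theorem coprime_twentyfour {n k : ℕ} (hk : n = 24 * k) (h16 : ¬ 16 ∣ n) (h9 : ¬ 9 ∣ n) : Nat.Coprime 24 k := by
  have c2 : Nat.Coprime 2 k := (Nat.Prime.coprime_iff_not_dvd Nat.prime_two).2 fun ⟨j, hj⟩ => h16 ⟨3 * j, by omega⟩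
  have c3 : Nat.Coprime 3 k := (Nat.Prime.coprime_iff_not_dvd Nat.prime_three).2 fun ⟨j, hj⟩ => h9 ⟨8 * j, by omega⟩
  exact Nat.Coprime.mul_left (Nat.Coprime.mul_left c2 (Nat.Coprime.mul_left c2 c2)) c3

variable {G : Type u} [Group G] [Finite G]

theorem hall24_of_solvable [Group.IsSolvable G] (h8 : 8 ∣ Nat.card G) (h16 : ¬ 16 ∣ Nat.card G)
    (h3 : 3 ∣ Nat.card G) (h9 : ¬ 9 ∣ Nat.card G) : ∃ H : Subgroup G, Nat.card H = 24 := by
  obtain ⟨k, hk⟩ : 24 ∣ Nat.card G := Nat.Coprime.mul_dvd_of_dvd_of_dvd (by norm_num : Nat.Coprime 8 3) h8 h3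
  exact hall_of_solvable hk (coprime_twentyfour hk h16 h9)

theorem exists_three_of_dvd {H : Subgroup G} (h : 3 ∣ Nat.card H) : ∃ x ∈ H, orderOf x = 3 := by
  haveI : Fact (Nat.Prime 3) := ⟨Nat.prime_three⟩
  obtain ⟨x, hx⟩ := exists_prime_orderOf_dvd_card' 3 h
  exact ⟨x, x.2, by rw [Subgroup.orderOf_coe, hx]⟩

/-- An element of odd order prime to 3 normalising a group of order eight and fixing an involution of it
centralises it. -/
theorem centralizes_eight {U : Subgroup G} (hU : Nat.card U = 8) {g : G}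
    (hg : g ∈ Subgroup.normalizer (U : Set G)) (ho : Odd (orderOf g)) (h3 : ¬ 3 ∣ orderOf g) {v : G} (hv : v ∈ U)
    (hv1 : v ≠ 1) (hgv : g * v = v * g) : g ∈ Subgroup.centralizer (U : Set G) := by
  classical
  letI := Fintype.ofFinite U
  have hU' : Fintype.card U = 8 := by rw [← Nat.card_eq_fintype_card, hU]
  set g' : Subgroup.normalizer (U : Set G) := ⟨g, hg⟩ with hg'
  set φ := (MulAut.toPerm (M := U)).comp U.normalizerMonoidHom with hφ
  have h1 : φ g' ^ orderOf g = 1 := by
    rw [← map_pow, show g' ^ orderOf g = 1 from Subtype.ext (by simp [hg', pow_orderOf_eq_one]), map_one]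
  have h2 : φ g' ^ (35 * 1152) = 1 := by
    rw [show 35 * 1152 = (Fintype.card U).factorial by rw [hU']; decide, ← Fintype.card_perm]
    exact pow_card_eq_one
  have h35 : φ g' ^ 35 = 1 := by
    have hd1 := orderOf_dvd_of_pow_eq_one h1
    have c2 : (orderOf g).Coprime 2 := Nat.coprime_two_right.2 ho
    have c3 : (orderOf g).Coprime 3 := ((Nat.Prime.coprime_iff_not_dvd Nat.prime_three).2 h3).symm
    have hc : (orderOf g).Coprime (2 ^ 7 * 3 ^ 2) := Nat.Coprime.mul_right (c2.pow_right 7) (c3.pow_right 2)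
    exact orderOf_dvd_iff_pow_eq_one.1
      (Nat.Coprime.dvd_of_dvd_mul_right (hc.coprime_dvd_left hd1) (orderOf_dvd_of_pow_eq_one h2))
  -- fixed points of a power
  have key : ∀ (p m : ℕ), p = 5 ∨ p = 7 → φ g' ^ (m * p) = 1 → φ g' ^ m = 1 := by
    intro p m hp hpow
    haveI : Fact (Nat.Prime p) := ⟨by rcases hp with rfl | rfl <;> norm_num⟩
    set σ := φ g' ^ m with hσ
    have hmod := Equiv.Perm.card_compl_support_modEq (p := p) (n := 1) (σ := σ) (by rw [pow_one, hσ, ← pow_mul, hpow])
    rw [hU'] at hmod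
    set F := (U ⊓ Subgroup.centralizer ({g ^ m} : Set G)) with hF
    have hσapp : ∀ x : U, ((σ x : U) : G) = g ^ m * x * (g ^ m)⁻¹ := fun x => by
      have : σ = φ (g' ^ m) := (map_pow φ g' m).symm
      rw [this]
      simp [hφ, hg']
      rfl
    have hfix : σ.supportᶜ.card = Nat.card F := by
      rw [← Nat.card_eq_finsetCard]
      refine Nat.card_congr (Equiv.ofBijective (fun x => ⟨((x.1 : U) : G), x.1.2, ?_⟩) ⟨?_, ?_⟩)
      · have h := x.2
        rw [Finset.mem_compl, Equiv.Perm.mem_support, not_not] at h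
        refine Subgroup.mem_centralizer_singleton_iff.2 ?_
        have e := congrArg (Subtype.val (p := fun y => y ∈ U)) h
        rw [hσapp] at e
        exact (mul_inv_eq_iff_eq_mul.1 e).symm
      · exact fun a b e => Subtype.ext (Subtype.ext (congrArg (fun y : F => (y : G)) e))
      · rintro ⟨y, hyU, hyC⟩
        refine ⟨⟨⟨y, hyU⟩, ?_⟩, rfl⟩
        rw [Finset.mem_compl, Equiv.Perm.mem_support, not_not]
        refine Subtype.ext ?_
        rw [hσapp]
        exact mul_inv_eq_iff_eq_mul.2 (Subgroup.mem_centralizer_singleton_iff.1 hyC).symm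
    rw [hfix] at hmod
    have hd : Nat.card F ∣ 8 := hU ▸ Subgroup.card_dvd_of_le inf_le_left
    have hne : Nat.card F ≠ 1 := by
      intro e
      rw [Subgroup.card_eq_one] at e
      refine hv1 (Subgroup.mem_bot.1 (e ▸ ⟨hv, Subgroup.mem_centralizer_singleton_iff.2 ?_⟩))
      exact ((show Commute g v from hgv).pow_left m).eq.symm
    have hle := Nat.le_of_dvd (by norm_num) hd
    have h8 : Nat.card F = 8 := by
      rcases hp with rfl | rfl <;> interval_cases h : Nat.card F <;> simp_all [Nat.ModEq]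
    have hFU : F = U := Subgroup.eq_of_le_of_card_ge inf_le_left (by rw [h8, hU])
    refine Equiv.ext fun x => Subtype.ext ?_
    rw [hσapp, Equiv.Perm.one_apply]
    exact mul_inv_eq_iff_eq_mul.2 (Subgroup.mem_centralizer_singleton_iff.1 (hFU.ge x.2).2).symm
  have h7 : φ g' ^ 7 = 1 := key 5 7 (Or.inl rfl) h35
  have h1' : φ g' = 1 := by simpa using key 7 1 (Or.inr rfl) (by simpa using h7)
  refine Subgroup.mem_centralizer_iff.2 fun x hx => ?_
  have h4 : g * x * g⁻¹ = x := congrArg Subtype.val (congrArg (fun σ : Equiv.Perm U => σ ⟨x, hx⟩) h1')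
  exact (mul_inv_eq_iff_eq_mul.1 h4).symm

theorem two_card_dvd (h16 : ¬ 16 ∣ Nat.card G) {U : Subgroup G} (hU : IsPGroup 2 U) : Nat.card U ∣ 8 := by
  haveI : Fact (Nat.Prime 2) := ⟨Nat.prime_two⟩
  obtain ⟨k, hk⟩ := IsPGroup.iff_card.1 hU
  have hle : k ≤ 3 := by
    by_contra hle
    exact h16 ((pow_dvd_pow 2 (not_le.1 hle) : 2 ^ 4 ∣ 2 ^ k).trans (hk ▸ Subgroup.card_subgroup_dvd_card _))
  rw [hk]
  exact pow_dvd_pow 2 hle

/-- A 3-element normalising a group of order four or eight gives a subgroup of order 24. -/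
theorem of_three (h8 : 8 ∣ Nat.card G) (h16 : ¬ 16 ∣ Nat.card G) (h3 : 3 ∣ Nat.card G) (h9 : ¬ 9 ∣ Nat.card G)
    {U : Subgroup G} (hU : Nat.card U = 8 ∨ Nat.card U = 4) {x : G}
    (hx : x ∈ Subgroup.normalizer (U : Set G)) (hord : orderOf x = 3) : ∃ H : Subgroup G, Nat.card H = 24 := by
  haveI : Fact (Nat.Prime 2) := ⟨Nat.prime_two⟩
  rcases hU with hU | hU
  · exact ⟨_, by rw [sup_zpowers_card hx hord (by rw [hU]; norm_num), hU]⟩
  obtain ⟨Q, hQ⟩ := (IsPGroup.of_card (n := 2) (by rw [hU]; norm_num) : IsPGroup 2 U).exists_le_sylow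
  have hQc : Nat.card (Q : Subgroup G) = 8 := Nat.dvd_antisymm (two_card_dvd h16 Q.isPGroup')
    (Q.pow_dvd_card_of_pow_dvd_card (n := 3) h8)
  set L := Subgroup.normalizer (U : Set G) with hL
  have hUQ : U.subgroupOf (Q : Subgroup G) |>.Normal := by
    refine Subgroup.normal_of_index_eq_two ?_
    have h1 := Subgroup.card_mul_index (U.subgroupOf (Q : Subgroup G))
    rw [Nat.card_congr (Subgroup.subgroupOfEquivOfLe hQ).toEquiv, hU, hQc] at h1
    omega
  have hQL : (Q : Subgroup G) ≤ L := (Subgroup.normal_subgroupOf_iff_le_normalizer hQ).1 hUQ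
  have hLd : Nat.card L ∣ Nat.card G := Subgroup.card_subgroup_dvd_card _
  haveI : Group.IsSolvable L := by
    set U' := U.subgroupOf L with hU'
    haveI : U'.Normal := Subgroup.normal_in_normalizer
    have hU'c : Nat.card U' = 4 := by
      rw [hU', Nat.card_congr (Subgroup.subgroupOfEquivOfLe (Subgroup.le_normalizer)).toEquiv, hU]
    haveI : Group.IsSolvable (L ⧸ U') := solvable_of_not_four fun h4 => h16 <| by
      have h1 := Subgroup.card_mul_index U'
      rw [hU'c] at h1
      exact ((Nat.mul_dvd_mul_left 4 h4).trans (dvd_of_eq h1) : 4 * 4 ∣ _).trans hLd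
    haveI hUc : IsMulCommutative U' := IsPGroup.isMulCommutative_of_card_eq_prime_sq (p := 2) (by rw [hU'c]; norm_num)
    haveI : Group.IsSolvable U' := Group.isSolvable_of_comm fun a b => hUc.1.comm a b
    exact (Group.isSolvable_iff_subgroup_quotient U').2 ⟨inferInstance, inferInstance⟩
  refine of_subgroup (hall24_of_solvable (hQc ▸ Subgroup.card_dvd_of_le hQL) (fun h => h16 (h.trans hLd)) ?_
    (fun h => h9 (h.trans hLd)))
  have := orderOf_dvd_natCard (⟨x, hx⟩ : L)
  rwa [Subgroup.orderOf_mk, hord] at this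

theorem exists_three_power {g : G} (h : 3 ∣ orderOf g) : orderOf (g ^ (orderOf g / 3)) = 3 :=
  orderOf_pow_orderOf_div (orderOf_pos g).ne' h

/-- The theorem. -/
theorem twentyfour : ∀ (n : ℕ) (G : Type u) [Group G] [Finite G], Nat.card G = n → 8 ∣ n → ¬ 16 ∣ n → 3 ∣ n →
    ¬ 9 ∣ n → ∃ H : Subgroup G, Nat.card H = 24 := by
  intro n
  induction n using Nat.strong_induction_on with
  | _ n ih =>
  intro G _ _ hn h8 h16 h3 h9
  rw [← hn] at h8 h16 h3 h9
  classical
  haveI : Fact (Nat.Prime 2) := ⟨Nat.prime_two⟩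
  haveI : Fact (Nat.Prime 3) := ⟨Nat.prime_three⟩
  by_contra hcon
  have hno : ∀ U : Subgroup G, (Nat.card U = 8 ∨ Nat.card U = 4) →
      ∀ g ∈ Subgroup.normalizer (U : Set G), ¬ 3 ∣ orderOf g := fun U hU g hg h =>
    hcon (of_three h8 h16 h3 h9 hU (pow_mem hg _) (exists_three_power h))
  have hns : ¬ Group.IsSolvable G := fun hs => hcon (hall24_of_solvable h8 h16 h3 h9)
  obtain ⟨S⟩ : Nonempty (Sylow 2 G) := inferInstance
  have hS : Nat.card (S : Subgroup G) = 8 :=
    Nat.dvd_antisymm (two_card_dvd h16 S.isPGroup') (S.pow_dvd_card_of_pow_dvd_card (n := 3) h8)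
  by_cases hexp : ∀ x ∈ (S : Subgroup G), x * x = 1
  · -- involution centralisers
    have hnpc : ∀ t : G, orderOf t = 2 → Cfsg.HasNormalPComplement 2 (EightSylow.C t) := by
      intro t ht
      obtain ⟨Q, hQ⟩ := (IsPGroup.of_card (n := 1) (by rw [Nat.card_zpowers, ht, pow_one]) :
        IsPGroup 2 (Subgroup.zpowers t)).exists_le_sylow
      have htQ : t ∈ (Q : Subgroup G) := hQ (Subgroup.mem_zpowers t)
      have habel := (EightSylow.abelian_two S hexp Q.isPGroup').2
      have hQC : (Q : Subgroup G) ≤ EightSylow.C t := fun x hx => EightSylow.mem_C.2 (habel x hx t htQ)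
      have hQc : Nat.card (Q : Subgroup G) = 8 := by rw [Nat.card_congr (Sylow.equiv Q S).toEquiv, hS]
      set L := EightSylow.C t with hL
      have hLd : Nat.card L ∣ Nat.card G := Subgroup.card_subgroup_dvd_card _
      have hL8 : 8 ∣ Nat.card L := hQc ▸ Subgroup.card_dvd_of_le hQC
      by_cases hL3 : 3 ∣ Nat.card L
      · -- twelve in the quotient by t
        exfalso
        set t' : L := ⟨t, EightSylow.mem_C.2 rfl⟩ with ht'
        have hcen : t' ∈ Subgroup.center L := Subgroup.mem_center_iff.2 fun y =>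
          Subtype.ext (EightSylow.mem_C.1 y.2)
        set Z := Subgroup.zpowers t' with hZ
        haveI : Z.Normal := ⟨fun a ha b => by
          have hc : a ∈ Subgroup.center L := (Subgroup.zpowers_le.2 hcen) ha
          rwa [Subgroup.mem_center_iff.1 hc b, mul_inv_cancel_right]⟩
        have hZc : Nat.card Z = 2 := by rw [hZ, Nat.card_zpowers, ht', Subgroup.orderOf_mk, ht]
        have hQd : Nat.card L = 2 * Nat.card (L ⧸ Z) := by
          rw [← hZc, ← Subgroup.card_mul_index Z]; rfl
        have q4 : 4 ∣ Nat.card (L ⧸ Z) := by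
          obtain ⟨j, hj⟩ := hL8; exact ⟨j, by omega⟩
        have q8 : ¬ 8 ∣ Nat.card (L ⧸ Z) := fun ⟨j, hj⟩ => h16 (Dvd.dvd.trans (⟨j, by omega⟩ : 16 ∣ Nat.card L) hLd)
        have q3 : 3 ∣ Nat.card (L ⧸ Z) :=
          (Nat.Coprime.dvd_mul_left (by norm_num : Nat.Coprime 3 2)).1 (hQd ▸ hL3)
        have q9 : ¬ 9 ∣ Nat.card (L ⧸ Z) := fun h => h9 ((h.trans (Dvd.intro_left 2 hQd.symm)).trans hLd)
        obtain ⟨K, hK⟩ := twelve q4 q8 q3 q9
        exact hcon (of_subgroup ⟨K.comap (QuotientGroup.mk' Z), by rw [card_comap_mk, hK, hZc]⟩)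
      refine Fusion.hasNormalPComplement_of_frobenius fun D hD g hg hgo => ?_
      have hgodd : Odd (orderOf g) := Nat.coprime_two_right.1 hgo
      have hg3 : ¬ 3 ∣ orderOf g := fun h => hL3 (h.trans (orderOf_dvd_natCard g))
      have hD8 : Nat.card D ∣ 8 := by
        have := two_card_dvd h16 (hD.map L.subtype)
        rwa [Subgroup.card_map_of_injective L.subtype_injective] at this
      rcases eq_or_ne (Nat.card D) 8 with hDc | hDc
      · set tt : L := ⟨t, EightSylow.mem_C.2 rfl⟩ with htt
        have hcen : ∀ y : L, y * tt = tt * y := fun y => Subtype.ext (EightSylow.mem_C.1 y.2)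
        have htD : tt ∈ D := by
          obtain ⟨P, hP⟩ := hD.exists_le_sylow
          have hPc : Nat.card (P : Subgroup L) = 8 := by
            refine Nat.dvd_antisymm ?_ (hDc ▸ Subgroup.card_dvd_of_le hP)
            have := two_card_dvd h16 (P.isPGroup'.map L.subtype)
            rwa [Subgroup.card_map_of_injective L.subtype_injective] at this
          rw [Subgroup.eq_of_le_of_card_ge hP (by rw [hPc, hDc])]
          have hp' : IsPGroup 2 (Subgroup.zpowers tt) :=
            IsPGroup.of_card (n := 1) (by rw [Nat.card_zpowers, htt, Subgroup.orderOf_mk, ht, pow_one])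
          have hnorm : Subgroup.zpowers tt ≤ Subgroup.normalizer ((P : Subgroup L) : Set L) :=
            Subgroup.zpowers_le.2 (Subgroup.mem_normalizer_iff.2 fun y => by
              rw [← hcen y, mul_inv_cancel_right])
          exact (P.is_maximal' (IsPGroup.to_sup_of_normal_right' hp' P.isPGroup' hnorm) le_sup_right).le
            (Subgroup.mem_sup_left (Subgroup.mem_zpowers tt))
        refine centralizes_eight hDc hg hgodd hg3 htD (fun e => ?_) (hcen g)
        have := congrArg (Subtype.val (p := fun y => y ∈ L)) e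
        rw [show (t : G) = 1 from this, orderOf_one] at ht
        omega
      · refine centralizes_small ?_ hg hgodd hg3
        have hle := Nat.le_of_dvd (by norm_num) hD8
        interval_cases h : Nat.card D <;> omega
    exact hns (EightSylow.isSolvable _ G rfl S hS hexp h9 hnpc)
  · -- S is not elementary
    refine hns (RealTwoPart.isSolvable_of_hasNormalPComplement OddChar.oddSolvable.{u}
      (Fusion.hasNormalPComplement_of_frobenius fun D hD g hg hgo => ?_))
    have hgodd : Odd (orderOf g) := Nat.coprime_two_right.1 hgo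
    have hD8 := two_card_dvd h16 hD
    have hle := Nat.le_of_dvd (by norm_num) hD8
    rcases eq_or_ne (Nat.card D) 8 with hDc | hDc
    · have h3g := hno D (Or.inl hDc) g hg
      -- a proper invariant subgroup
      obtain ⟨V, hVD, hV1, hV8, hVg⟩ : ∃ V : Subgroup G, V ≤ D ∧ V ≠ ⊥ ∧ Nat.card V ≠ 8 ∧
          g ∈ Subgroup.normalizer (V : Set G) := by
        have hconjD : ∀ y ∈ D, g * y * g⁻¹ ∈ D := fun y hy => (Subgroup.mem_normalizer_iff.1 hg y).1 hy
        have hconjD' : ∀ y ∈ D, g⁻¹ * y * g ∈ D := fun y hy => (Subgroup.mem_normalizer_iff''.1 hg y).1 hy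
        by_cases hab : ∀ a ∈ D, ∀ b ∈ D, a * b = b * a
        · let V : Subgroup G :=
            { carrier := {y | y ∈ D ∧ y * y = 1}
              one_mem' := ⟨D.one_mem, by simp⟩
              mul_mem' := fun {a b} ha hb => ⟨D.mul_mem ha.1 hb.1, by
                calc a * b * (a * b) = a * (b * a) * b := by group
                  _ = a * (a * b) * b := by rw [hab a ha.1 b hb.1]
                  _ = (a * a) * (b * b) := by group
                  _ = 1 := by rw [ha.2, hb.2, one_mul]⟩
              inv_mem' := fun {a} ha => ⟨D.inv_mem ha.1, by rw [← mul_inv_rev, ha.2, inv_one]⟩ }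
          refine ⟨V, fun y hy => hy.1, ?_, ?_, ?_⟩
          · obtain ⟨y, hy⟩ := exists_prime_orderOf_dvd_card' 2 (by rw [hDc]; norm_num : 2 ∣ Nat.card D)
            intro e
            have hyV : (y : G) ∈ V := ⟨y.2, by
              rw [← pow_two, ← hy, ← Subgroup.orderOf_coe, pow_orderOf_eq_one]⟩
            rw [e, Subgroup.mem_bot] at hyV
            rw [← Subgroup.orderOf_coe, hyV, orderOf_one] at hy
            omega
          · intro e
            have hVD : V = D := Subgroup.eq_of_le_of_card_ge (fun y hy => hy.1) (by rw [hDc, e])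
            obtain ⟨Q, hQ⟩ := hD.exists_le_sylow
            have hQD : (Q : Subgroup G) = D := (Subgroup.eq_of_le_of_card_ge hQ
              (by rw [Nat.card_congr (Sylow.equiv Q S).toEquiv, hS, hDc])).symm
            refine hexp fun x hx => ?_
            have hy := ((Sylow.equiv S Q) ⟨x, hx⟩).2
            replace hy := hVD.ge (hQD.le hy)
            have := (Sylow.equiv S Q).injective (a₁ := ⟨x, hx⟩ * ⟨x, hx⟩) (a₂ := 1) (by
              rw [map_mul, map_one]; exact Subtype.ext hy.2)
            exact congrArg Subtype.val this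
          · refine Subgroup.mem_normalizer_iff.2 fun y => ⟨fun hy => ⟨hconjD y hy.1, ?_⟩, fun hy => ?_⟩
            · rw [show g * y * g⁻¹ * (g * y * g⁻¹) = g * (y * y) * g⁻¹ by group, hy.2]
              group
            · refine ⟨by simpa [mul_assoc] using hconjD' _ hy.1, ?_⟩
              have h := hy.2
              rw [show g * y * g⁻¹ * (g * y * g⁻¹) = g * (y * y) * g⁻¹ by group] at h
              exact conj_eq_one_iff.1 h
        · refine ⟨D ⊓ Subgroup.centralizer (D : Set G), inf_le_left, ?_, ?_, ?_⟩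
          · haveI : Nontrivial D := Finite.one_lt_card_iff_nontrivial.1 (by rw [hDc]; norm_num)
            haveI := hD.center_nontrivial
            obtain ⟨c, hc⟩ := exists_ne (1 : Subgroup.center D)
            intro e
            have hcV : ((c : D) : G) ∈ D ⊓ Subgroup.centralizer (D : Set G) := ⟨(c : D).2,
              Subgroup.mem_centralizer_iff.2 fun y hy => congrArg Subtype.val (Subgroup.mem_center_iff.1 c.2 ⟨y, hy⟩)⟩
            rw [e, Subgroup.mem_bot] at hcV
            exact hc (Subtype.ext (Subtype.ext hcV))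
          · intro e
            have hVD := Subgroup.eq_of_le_of_card_ge (inf_le_left : D ⊓ Subgroup.centralizer (D : Set G) ≤ D)
              (by rw [hDc, e])
            exact hab fun a ha b hb => Subgroup.mem_centralizer_iff.1 (hVD.ge hb).2 a ha
          · refine Subgroup.inf_normalizer_le_normalizer_inf (Subgroup.mem_inf.2 ⟨hg, ?_⟩)
            refine Subgroup.mem_normalizer_iff.2 fun y => ⟨fun hy => ?_, fun hy => ?_⟩
            all_goals rw [Subgroup.mem_centralizer_iff] at hy ⊢; intro d hd
            · have := hy _ (hconjD' d hd)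
              calc d * (g * y * g⁻¹) = g * ((g⁻¹ * d * g) * y) * g⁻¹ := by group
                _ = _ := by rw [this]; group
            · have := hy _ (hconjD d hd)
              calc d * y = g⁻¹ * (g * d * g⁻¹ * (g * y * g⁻¹)) * g := by group
                _ = _ := by rw [this]; group
      have hVd : Nat.card V ∣ 8 := hDc ▸ Subgroup.card_dvd_of_le hVD
      have hV4 : Nat.card V ≤ 4 := by
        have := Nat.le_of_dvd (by norm_num) hVd
        interval_cases h : Nat.card V <;> omega
      obtain ⟨v, hv⟩ := Subgroup.ne_bot_iff_exists_ne_one.1 hV1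
      exact centralizes_eight hDc hg hgodd h3g (hVD v.2) (fun e => hv (Subtype.ext e))
        (Subgroup.mem_centralizer_iff.1 (centralizes_small hV4 hVg hgodd h3g) v v.2).symm
    · have h4 : Nat.card D ≤ 4 := by interval_cases h : Nat.card D <;> omega
      rcases eq_or_ne (Nat.card D) 4 with hD4 | hD4
      · exact centralizes_small h4 hg hgodd (hno D (Or.inr hD4) g hg)
      · refine centralizes_of_pow_fact hg (hgo.coprime_dvd_right ?_)
        have h2 : Nat.card D ≤ 2 := by interval_cases h : Nat.card D <;> omega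
        exact (Nat.factorial_dvd_factorial h2).trans (dvd_of_eq (by decide))

end Cfsg.Agent.HallNum
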