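import Cfsg.Agent.Lib.HallNum.Counter
import Cfsg.Agent.Lib.HallNum.TwentyFour
import Cfsg.Agent.Lib.HallNum.Sixty

/-!
The integers which are Hall numbers: prime powers, twice odd numbers, 12, 24 and 60.  The case of 60 is given the
classification of simple groups with dihedral Sylow 2-subgroups.
-/

set_option autoImplicit false

namespace Cfsg.Agent.HallNum

/-- The theorem. -/
theorem main (hGW : GW.SimpleDihedral.{0}) (m : ℕ) (hm : 2 ≤ m) :
    (∀ (G : Type) [Group G] [Finite G], m ∣ Nat.card G → m.Coprime (Nat.card G / m) →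
        ∃ H : Subgroup G, Nat.card H = m) ↔
    (IsPrimePow m ∨ m % 4 = 2 ∨ m = 12 ∨ m = 24 ∨ m = 60) := by
  constructor
  · intro h
    by_contra hcon
    push Not at hcon
    obtain ⟨h1, h2, h3, h4, h5⟩ := hcon
    obtain ⟨p, _, hd, hc, hno⟩ := exists_counterexample hm h1 h2 h3 h4 h5
    obtain ⟨H, hH⟩ := h _ hd hc
    exact hno H hH
  · intro hcase G _ _ hd hc
    obtain ⟨k, hk⟩ := hd
    have hm0 : 0 < m := by omega
    rw [hk, Nat.mul_div_cancel_left _ hm0] at hc
    -- the prime divisors of `m` do not divide the index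
    have pow_le : ∀ q e : ℕ, q.Prime → q ∣ m → ¬ q ^ e ∣ m → ¬ q ^ e ∣ Nat.card G := by
      intro q e hq hqm hne hd
      refine hne (Nat.Coprime.dvd_of_dvd_mul_right ?_ (hk ▸ hd))
      refine Nat.Coprime.pow_left e ((Nat.Prime.coprime_iff_not_dvd hq).2 fun hqk => ?_)
      exact hq.one_lt.ne' (Nat.eq_one_of_dvd_coprimes hc hqm hqk)
    rcases hcase with hpp | h2 | rfl | rfl | rfl
    · obtain ⟨q, e, hq, he, rfl⟩ := (isPrimePow_nat_iff m).1 hpp
      haveI : Fact q.Prime := ⟨hq⟩
      exact Sylow.exists_subgroup_card_pow_prime q ⟨k, hk⟩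
    · haveI : Group.IsSolvable G := solvable_of_not_four fun h4 => by
        have : ¬ (2 : ℕ) ^ 2 ∣ m := by omega
        exact pow_le 2 2 Nat.prime_two (by omega) this h4
      exact hall_of_solvable hk hc
    · exact twelve ⟨3 * k, by omega⟩ (pow_le 2 3 Nat.prime_two (by norm_num) (by norm_num)) ⟨4 * k, by omega⟩
        (pow_le 3 2 Nat.prime_three (by norm_num) (by norm_num))
    · exact twentyfour (Nat.card G) G rfl ⟨3 * k, by omega⟩ (pow_le 2 4 Nat.prime_two (by norm_num) (by norm_num))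
        ⟨8 * k, by omega⟩ (pow_le 3 2 Nat.prime_three (by norm_num) (by norm_num))
    · exact sixty hGW (Nat.card G) G rfl ⟨⟨15 * k, by omega⟩, pow_le 2 3 Nat.prime_two (by norm_num) (by norm_num),
        ⟨20 * k, by omega⟩, pow_le 3 2 Nat.prime_three (by norm_num) (by norm_num), ⟨12 * k, by omega⟩,
        pow_le 5 2 (by norm_num) (by norm_num) (by norm_num)⟩

end Cfsg.Agent.HallNum
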