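import Cfsg.Agent.Lib.Solvable.Hall
import Cfsg.Agent.Lib.Isolated.HSubgroup
import Cfsg.Agent.Lib.OddDown.RealTwoPart
import Cfsg.Agent.Lib.OddChar.OddTheorem
import Cfsg.Agent.Lib.Transfer.Fusion
import Mathlib.GroupTheory.SchurZassenhaus
import Mathlib.GroupTheory.Perm.Cycle.Type

/-!
Groups containing a Hall subgroup of order m for the small special values of m: common tools, prime powers,
twice an odd number, and twelve.
-/

set_option autoImplicit false
set_option linter.style.haveILetI false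
set_option linter.unusedSectionVars false

namespace Cfsg.Agent.HallNum

universe u

variable {G : Type u} [Group G] [Finite G]

theorem solvable_of_not_four (h : ¬ 4 ∣ Nat.card G) : Group.IsSolvable G := by
  haveI : Fact (Nat.Prime 2) := ⟨Nat.prime_two⟩
  obtain ⟨P⟩ : Nonempty (Sylow 2 G) := inferInstance
  obtain ⟨k, hk⟩ := IsPGroup.iff_card.1 P.isPGroup'
  haveI : IsCyclic (P : Subgroup G) := by
    rcases k with _ | _ | k
    · haveI : Subsingleton (P : Subgroup G) := (Nat.card_eq_one_iff_unique.1 (hk.trans (pow_zero 2))).1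
      exact isCyclic_of_subsingleton
    · exact isCyclic_of_prime_card (hk.trans (pow_one 2))
    · exact absurd ((Dvd.intro_left (2 ^ k) (by rw [hk]; ring) : 4 ∣ Nat.card (P : Subgroup G)).trans
        (Subgroup.card_subgroup_dvd_card _)) h
  exact RealTwoPart.isSolvable_of_hasNormalPComplement OddChar.oddSolvable.{u}
    (HSub.hasNormalPComplement_of_cyclic P fun r hr _ => hr.two_le)

theorem hall_of_solvable [Group.IsSolvable G] {m k : ℕ} (hc : Nat.card G = m * k) (hcop : m.Coprime k) :
    ∃ H : Subgroup G, Nat.card H = m := HallSolv.exists_hall hc hcop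

theorem card_comap_mk (N : Subgroup G) [N.Normal] (K : Subgroup (G ⧸ N)) :
    Nat.card (K.comap (QuotientGroup.mk' N)) = Nat.card K * Nat.card N := by
  have h1 := Subgroup.card_mul_index (K.comap (QuotientGroup.mk' N))
  rw [Subgroup.index_comap_of_surjective _ (QuotientGroup.mk'_surjective N)] at h1
  have h2 := Subgroup.card_mul_index K
  have h3 := Subgroup.card_mul_index N
  have h4 : Nat.card (G ⧸ N) = N.index := rfl
  have h5 : 0 < K.index := Nat.pos_of_ne_zero Subgroup.index_ne_zero_of_finite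
  refine Nat.eq_of_mul_eq_mul_right h5 ?_
  rw [h1, ← h3, ← h4, ← h2]
  ring

/-- Lifting across a normal subgroup of coprime order. -/
theorem hall_lift (N : Subgroup G) [N.Normal] {m : ℕ} (hcop : (Nat.card N).Coprime m) (K : Subgroup (G ⧸ N))
    (hK : Nat.card K = m) : ∃ H : Subgroup G, Nat.card H = m := by
  set P := K.comap (QuotientGroup.mk' N) with hP
  have hNP : N ≤ P := fun x hx => by
    rw [hP, Subgroup.mem_comap, QuotientGroup.mk'_apply, (QuotientGroup.eq_one_iff x).2 hx]
    exact one_mem _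
  have hPc : Nat.card P = m * Nat.card N := by rw [hP, card_comap_mk, hK]
  set N' := N.subgroupOf P with hN'
  have hN'c : Nat.card N' = Nat.card N := Nat.card_congr (Subgroup.subgroupOfEquivOfLe hNP).toEquiv
  have hidx : N'.index = m := by
    have h1 := Subgroup.card_mul_index N'
    rw [hN'c, hPc, mul_comm m] at h1
    exact Nat.eq_of_mul_eq_mul_left Nat.card_pos h1
  obtain ⟨L, hL⟩ := Subgroup.exists_right_complement'_of_coprime (N := N') (by rw [hN'c, hidx]; exact hcop)
  refine ⟨L.map P.subtype, ?_⟩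
  have h2 := hL.card_mul
  rw [hN'c, hPc, mul_comm m] at h2
  rw [Subgroup.card_map_of_injective P.subtype_injective]
  exact Nat.eq_of_mul_eq_mul_left Nat.card_pos h2

/-- A subgroup from one of a subgroup. -/
theorem of_subgroup {L : Subgroup G} {m : ℕ} (h : ∃ H : Subgroup L, Nat.card H = m) :
    ∃ H : Subgroup G, Nat.card H = m := by
  obtain ⟨H, hH⟩ := h
  exact ⟨H.map L.subtype, by rw [Subgroup.card_map_of_injective L.subtype_injective, hH]⟩

theorem sup_zpowers_card {U : Subgroup G} {x : G} {k : ℕ} (hx : x ∈ Subgroup.normalizer (U : Set G))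
    (hord : orderOf x = k) (hcop : (Nat.card U).Coprime k) :
    Nat.card ↥(U ⊔ Subgroup.zpowers x) = Nat.card U * k := by
  rw [SolvBasic.card_sup_of_inf_eq_bot (Subgroup.zpowers_le.2 hx), Nat.card_zpowers, hord]
  refine Subgroup.card_eq_one.1 (Nat.eq_one_of_dvd_coprimes hcop (Subgroup.card_dvd_of_le inf_le_left) ?_)
  rw [← hord, ← Nat.card_zpowers]
  exact Subgroup.card_dvd_of_le inf_le_right

/-- The conjugation permutation of a normalised subgroup. -/
theorem centralizes_of_pow_fact {U : Subgroup G} {g : G} (hg : g ∈ Subgroup.normalizer (U : Set G))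
    (hcop : (orderOf g).Coprime (Nat.card U).factorial) : g ∈ Subgroup.centralizer (U : Set G) := by
  classical
  letI := Fintype.ofFinite U
  set φ := (MulAut.toPerm (M := U)).comp U.normalizerMonoidHom with hφ
  set g' : Subgroup.normalizer (U : Set G) := ⟨g, hg⟩ with hg'
  have h1 : φ g' ^ orderOf g = 1 := by
    rw [← map_pow, show g' ^ orderOf g = 1 from Subtype.ext (by simp [hg', pow_orderOf_eq_one]), map_one]
  have h2 : φ g' ^ (Nat.card U).factorial = 1 := by
    rw [Nat.card_eq_fintype_card, ← Fintype.card_perm]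
    exact pow_card_eq_one
  have h3 : φ g' = 1 := orderOf_eq_one_iff.1 (Nat.eq_one_of_dvd_coprimes hcop (orderOf_dvd_of_pow_eq_one h1)
    (orderOf_dvd_of_pow_eq_one h2))
  refine Subgroup.mem_centralizer_iff.2 fun x hx => ?_
  have h4 : g * x * g⁻¹ = x := congrArg Subtype.val (congrArg (fun σ : Equiv.Perm U => σ ⟨x, hx⟩) h3)
  exact (mul_inv_eq_iff_eq_mul.1 h4).symm

theorem coprime_of_odd_not_three {o : ℕ} (ho : Odd o) (h3 : ¬ 3 ∣ o) {c : ℕ} (hc : c ≤ 4) :
    o.Coprime c.factorial := by
  have h2 : o.Coprime 2 := Nat.coprime_two_right.2 ho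
  have h3' : o.Coprime 3 := ((Nat.Prime.coprime_iff_not_dvd Nat.prime_three).2 h3).symm
  have h24 : o.Coprime (2 * (2 * (2 * 3))) :=
    Nat.Coprime.mul_right h2 (Nat.Coprime.mul_right h2 (Nat.Coprime.mul_right h2 h3'))
  exact h24.coprime_dvd_right ((Nat.factorial_dvd_factorial hc).trans (dvd_of_eq (by decide)))

/-- An element of odd order prime to 3 normalising a group of order at most four centralises it. -/
theorem centralizes_small {U : Subgroup G} (hU : Nat.card U ≤ 4) {g : G} (hg : g ∈ Subgroup.normalizer (U : Set G))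
    (ho : Odd (orderOf g)) (h3 : ¬ 3 ∣ orderOf g) : g ∈ Subgroup.centralizer (U : Set G) :=
  centralizes_of_pow_fact hg (coprime_of_odd_not_three ho h3 hU)

theorem twelve (h4 : 4 ∣ Nat.card G) (h8 : ¬ 8 ∣ Nat.card G) (h3 : 3 ∣ Nat.card G) (h9 : ¬ 9 ∣ Nat.card G) :
    ∃ H : Subgroup G, Nat.card H = 12 := by
  haveI : Fact (Nat.Prime 2) := ⟨Nat.prime_two⟩
  haveI : Fact (Nat.Prime 3) := ⟨Nat.prime_three⟩
  obtain ⟨P⟩ : Nonempty (Sylow 2 G) := inferInstance
  have hP : Nat.card (P : Subgroup G) = 4 := by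
    obtain ⟨k, hk⟩ := IsPGroup.iff_card.1 P.isPGroup'
    have hd : 2 ^ k ∣ Nat.card G := hk ▸ Subgroup.card_subgroup_dvd_card _
    have hk2 : k < 3 := by
      by_contra hle
      exact h8 ((pow_dvd_pow 2 (not_lt.1 hle) : 2 ^ 3 ∣ 2 ^ k).trans hd)
    have h4' : 4 ∣ Nat.card (P : Subgroup G) := P.pow_dvd_card_of_pow_dvd_card (n := 2) h4
    rw [hk] at h4' ⊢
    interval_cases k <;> simp_all
  set N := Subgroup.normalizer ((P : Subgroup G) : Set G) with hN
  by_cases h3N : 3 ∣ Nat.card N
  · obtain ⟨x, hx⟩ := exists_prime_orderOf_dvd_card' 3 h3N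
    rw [← Subgroup.orderOf_coe] at hx
    refine ⟨(P : Subgroup G) ⊔ Subgroup.zpowers (x : G), ?_⟩
    rw [sup_zpowers_card x.2 hx (by rw [hP]; norm_num), hP]
  · have hnpc : Cfsg.HasNormalPComplement 2 G := by
      refine Fusion.hasNormalPComplement_of_normalizer_le_centralizer P fun g hg => ?_
      obtain ⟨a, b, hab, ha, hb, ⟨i, hai⟩, hbo⟩ := PBasic.exists_pPart_mul (p := 2) g
      have haN : a ∈ N := (Subgroup.zpowers_le.2 hg) ha
      have hbN : b ∈ N := (Subgroup.zpowers_le.2 hg) hb
      have haP : a ∈ (P : Subgroup G) := by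
        have hp' : IsPGroup 2 (Subgroup.zpowers a) := IsPGroup.of_card (n := i) (by rw [Nat.card_zpowers, hai])
        have h := P.is_maximal' (IsPGroup.to_sup_of_normal_right' hp' P.isPGroup' (Subgroup.zpowers_le.2 haN))
          le_sup_right
        exact h.le (Subgroup.mem_sup_left (Subgroup.mem_zpowers a))
      haveI hPc : IsMulCommutative (P : Subgroup G) :=
        IsPGroup.isMulCommutative_of_card_eq_prime_sq (p := 2) (by rw [hP]; norm_num)
      have hbC : b ∈ Subgroup.centralizer ((P : Subgroup G) : Set G) := by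
        refine centralizes_small hP.le hbN (Nat.coprime_two_right.1 hbo) fun h => h3N ?_
        have hd := orderOf_dvd_natCard (⟨b, hbN⟩ : N)
        rw [Subgroup.orderOf_mk] at hd
        exact h.trans hd
      rw [← hab]
      refine mul_mem (Subgroup.mem_centralizer_iff.2 fun y hy => ?_) hbC
      exact congrArg Subtype.val (hPc.1.comm ⟨y, hy⟩ ⟨a, haP⟩)
    haveI := RealTwoPart.isSolvable_of_hasNormalPComplement OddChar.oddSolvable.{u} hnpc
    obtain ⟨k, hk⟩ : 12 ∣ Nat.card G := Nat.Coprime.mul_dvd_of_dvd_of_dvd (by norm_num : Nat.Coprime 4 3) h4 h3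
    refine hall_of_solvable hk ?_
    have c2 : Nat.Coprime 2 k := (Nat.Prime.coprime_iff_not_dvd Nat.prime_two).2 fun ⟨j, hj⟩ => h8 ⟨3 * j, by omega⟩
    have c3 : Nat.Coprime 3 k := (Nat.Prime.coprime_iff_not_dvd Nat.prime_three).2 fun ⟨j, hj⟩ => h9 ⟨4 * j, by omega⟩
    exact Nat.Coprime.mul_left (Nat.Coprime.mul_left c2 c2) c3

end Cfsg.Agent.HallNum
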